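import Cfsg.Agent.Lib.Coprime.Generation
import Cfsg.Agent.Lib.Coprime.PGroupAction
import Cfsg.Agent.Lib.Core.Basic

/-!
# An operator group of order `r ^ 2` with abelian fixed-point subgroups: basic facts

`Setup G A r`: `A` is noncyclic of order `r ^ 2`, normalizes `G`, `r` does not divide `|G|`, and the
centralizers in `G` of the nonidentity elements of `A` are abelian. `MinCE` adds what holds in a
minimal nonsolvable example.
-/

set_option autoImplicit false
set_option linter.style.haveILetI false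

namespace Cfsg.Lib.Coprime.Ward

open Subgroup
open scoped commutatorElement

universe u

variable {X : Type u} [Group X]

/-- The hypotheses of the theorem, in ambient form. -/
structure Setup (G A : Subgroup X) (r : ℕ) : Prop where
  prime : r.Prime
  card : Nat.card A = r ^ 2
  notCyclic : ¬ IsCyclic A
  norm : A ≤ normalizer (G : Set X)
  cop : ¬ r ∣ Nat.card G
  abl : ∀ a ∈ A, a ≠ 1 → IsMulCommutative ↥(G ⊓ centralizer ({a} : Set X))

/-- A minimal nonsolvable example. -/
structure MinCE (G A : Subgroup X) (r : ℕ) : Prop extends Setup G A r where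
  solv : ∀ H : Subgroup X, H < G → A ≤ normalizer (H : Set X) → Group.IsSolvable H
  nonsolv : ¬ Group.IsSolvable G
  nonormal : ∀ N : Subgroup X, N ≤ G → A ≤ normalizer (N : Set X) →
    G ≤ normalizer (N : Set X) → N = ⊥ ∨ N = G
  fix : G ⊓ centralizer (A : Set X) = ⊥

variable {G A H V T : Subgroup X} {r : ℕ}

theorem centralizer_zpowers (a : X) :
    centralizer ((zpowers a : Subgroup X) : Set X) = centralizer ({a} : Set X) := by
  rw [zpowers_eq_closure, centralizer_closure]

theorem mem_inf_centralizer_singleton {a x : X} :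
    x ∈ H ⊓ centralizer ({a} : Set X) ↔ x ∈ H ∧ a * x = x * a := by
  simp [mem_centralizer_iff]

theorem inv_inf (h1 : A ≤ normalizer (H : Set X)) (h2 : A ≤ normalizer (V : Set X)) :
    A ≤ normalizer ((H ⊓ V : Subgroup X) : Set X) :=
  (le_inf h1 h2).trans inf_normalizer_le_normalizer_inf

theorem inv_normalizer (h : A ≤ normalizer (H : Set X)) :
    A ≤ normalizer ((normalizer (H : Set X) : Subgroup X) : Set X) :=
  h.trans le_normalizer

theorem inv_centralizer_inf (h1 : A ≤ normalizer (H : Set X)) (h2 : A ≤ normalizer (V : Set X)) :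
    A ≤ normalizer ((H ⊓ centralizer (V : Set X) : Subgroup X) : Set X) :=
  le_normalizer_inf_centralizer h1 h2

theorem inv_commutator (h1 : A ≤ normalizer (H : Set X)) (h2 : A ≤ normalizer (V : Set X)) :
    A ≤ normalizer ((⁅H, V⁆ : Subgroup X) : Set X) := fun a ha => by
  rw [Core.mem_normalizer_iff_map_conj, map_commutator,
    Core.map_conj_eq_of_mem_normalizer (h1 ha), Core.map_conj_eq_of_mem_normalizer (h2 ha)]

theorem inv_iSup {ι : Sort*} {f : ι → Subgroup X} (h : ∀ i, A ≤ normalizer (f i : Set X)) :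
    A ≤ normalizer ((⨆ i, f i : Subgroup X) : Set X) :=
  (le_iInf h).trans (iInf_normalizer_le_normalizer_iSup _)

variable [Finite X]

namespace Setup

variable (hS : Setup G A r)

include hS

theorem comm : IsMulCommutative A := by
  haveI := Fact.mk hS.prime
  letI := IsPGroup.commGroupOfCardEqPrimeSq hS.card
  exact ⟨⟨fun x y => mul_comm x y⟩⟩

theorem solvA : Group.IsSolvable A := by
  haveI := hS.comm
  exact Group.isSolvable_of_comm fun x y => mul_comm' x y

theorem comm_mem {a b : X} (ha : a ∈ A) (hb : b ∈ A) : a * b = b * a := by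
  haveI := hS.comm
  exact congrArg Subtype.val (mul_comm' (⟨a, ha⟩ : A) ⟨b, hb⟩)

theorem inv_zpowers {a : X} (ha : a ∈ A) : A ≤ normalizer ((zpowers a : Subgroup X) : Set X) := by
  intro b hb
  rw [Core.mem_normalizer_iff_map_conj, MonoidHom.map_zpowers]
  congr 1
  simp [hS.comm_mem hb ha]

theorem inv_cen (hH : A ≤ normalizer (H : Set X)) {a : X} (ha : a ∈ A) :
    A ≤ normalizer ((H ⊓ centralizer ({a} : Set X) : Subgroup X) : Set X) := by
  rw [← centralizer_zpowers]
  exact inv_centralizer_inf hH (hS.inv_zpowers ha)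

theorem coprime (hH : H ≤ G) : (Nat.card A).Coprime (Nat.card H) := by
  rw [hS.card]
  exact ((hS.prime.coprime_iff_not_dvd.mpr fun h => hS.cop (h.trans (card_dvd_of_le hH))).pow_left 2)

theorem coprime_zpowers (hH : H ≤ G) {a : X} (ha : a ∈ A) :
    (Nat.card (zpowers a)).Coprime (Nat.card H) :=
  (hS.coprime hH).coprime_dvd_left (card_dvd_of_le (zpowers_le.mpr ha))

theorem orderOf_eq {a : X} (ha : a ∈ A) (ha1 : a ≠ 1) : orderOf a = r := by
  have hd : orderOf a ∣ r ^ 2 := hS.card ▸ Subgroup.orderOf_dvd_natCard A ha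
  obtain ⟨k, hk, he⟩ := (Nat.dvd_prime_pow hS.prime).mp hd
  have h2 : k ≠ 2 := by
    rintro rfl
    refine hS.notCyclic (isCyclic_of_orderOf_eq_card (⟨a, ha⟩ : A) ?_)
    rw [Subgroup.orderOf_mk, he, hS.card]
  have h0 : k ≠ 0 := by
    rintro rfl
    exact ha1 (orderOf_eq_one_iff.mp (by rw [he, pow_zero]))
  rw [he, show k = 1 by omega, pow_one]

theorem cen_eq {a b : X} (ha : a ∈ A) (hb : b ∈ zpowers a) (hb1 : b ≠ 1) :
    centralizer ({b} : Set X) = centralizer ({a} : Set X) := by
  have hbA : b ∈ A := zpowers_le.mpr ha hb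
  have ha1 : a ≠ 1 := fun h => hb1 (by simpa [h] using hb)
  rw [← centralizer_zpowers, ← centralizer_zpowers]
  have h : zpowers b = zpowers a := eq_of_le_of_card_ge (zpowers_le.mpr hb)
    (by rw [Nat.card_zpowers, Nat.card_zpowers, hS.orderOf_eq hbA hb1, hS.orderOf_eq ha ha1])
  rw [h]

theorem gen {a b : X} (ha : a ∈ A) (ha1 : a ≠ 1) (hb : b ∈ A) (hba : b ∉ zpowers a) :
    zpowers a ⊔ zpowers b = A := by
  have hle : zpowers a ⊔ zpowers b ≤ A := sup_le (zpowers_le.mpr ha) (zpowers_le.mpr hb)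
  refine eq_of_le_of_card_ge hle ?_
  have hlt : zpowers a < zpowers a ⊔ zpowers b := lt_of_le_of_ne le_sup_left fun h =>
    hba (h ▸ mem_sup_right (mem_zpowers b))
  have h1 := card_dvd_of_le hlt.le
  have h2 := card_dvd_of_le hle
  rw [hS.card] at h2 ⊢
  obtain ⟨k, hk, he⟩ := (Nat.dvd_prime_pow hS.prime).mp h2
  have hlt' : Nat.card (zpowers a) < Nat.card ↥(zpowers a ⊔ zpowers b) :=
    Set.Finite.card_lt_card (Set.toFinite _) hlt
  rw [Nat.card_zpowers, hS.orderOf_eq ha ha1, he] at hlt'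
  rw [he]
  refine Nat.pow_le_pow_right hS.prime.pos ?_
  by_contra hk2
  have : r ^ k ≤ r ^ 1 := Nat.pow_le_pow_right hS.prime.pos (by omega)
  rw [pow_one] at this
  omega

theorem exists_ne_one : ∃ a ∈ A, a ≠ 1 :=
  A.bot_or_exists_ne_one.resolve_left fun h => by
    have := hS.card
    rw [h, card_bot] at this
    exact absurd this.symm (Nat.one_lt_pow two_ne_zero hS.prime.one_lt).ne'

theorem exists_indep {a : X} (ha : a ∈ A) : ∃ b ∈ A, b ∉ zpowers a := by
  by_contra h
  push Not at h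
  refine hS.notCyclic ?_
  have he : zpowers a = A := le_antisymm (zpowers_le.mpr ha) h
  rw [← he]
  infer_instance

theorem exists_third {a b : X} (ha : a ∈ A) (ha1 : a ≠ 1) (hb : b ∈ A) (hba : b ∉ zpowers a) :
    ∃ c ∈ A, c ∉ zpowers a ∧ c ∉ zpowers b ∧ c ≠ 1 := by
  have hb1 : b ≠ 1 := fun h => hba (h ▸ one_mem _)
  refine ⟨a * b, mul_mem ha hb, fun h => hba ?_, fun h => hba ?_, fun h => hba ?_⟩
  · simpa using mul_mem (inv_mem (mem_zpowers a)) h
  · have hab : a ∈ zpowers b := by simpa using mul_mem h (inv_mem (mem_zpowers b))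
    have hz : zpowers a = zpowers b := eq_of_le_of_card_ge (zpowers_le.mpr hab) (by
      rw [Nat.card_zpowers, Nat.card_zpowers, hS.orderOf_eq hb hb1, hS.orderOf_eq ha ha1])
    exact hz ▸ mem_zpowers b
  · rw [show b = a⁻¹ from (inv_eq_of_mul_eq_one_right h).symm]
    exact inv_mem (mem_zpowers a)

theorem gen_cen {a b : X} (ha : a ∈ A) (ha1 : a ≠ 1) (hb : b ∈ A) (hba : b ∉ zpowers a) {x : X}
    (hxa : a * x = x * a) (hxb : b * x = x * b) : x ∈ centralizer (A : Set X) := by
  rw [← hS.gen ha ha1 hb hba, zpowers_eq_closure, zpowers_eq_closure, ← closure_union,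
    centralizer_closure, mem_centralizer_iff]
  rintro g (rfl | rfl)
  exacts [hxa, hxb]

theorem commute_of_cen {a x y : X} (ha : a ∈ A) (ha1 : a ≠ 1) (hxG : x ∈ G) (hyG : y ∈ G)
    (hx : a * x = x * a) (hy : a * y = y * a) : x * y = y * x := by
  haveI := hS.abl a ha ha1
  exact congrArg Subtype.val (mul_comm'
    (⟨x, mem_inf_centralizer_singleton.mpr ⟨hxG, hx⟩⟩ : ↥(G ⊓ centralizer ({a} : Set X)))
    ⟨y, mem_inf_centralizer_singleton.mpr ⟨hyG, hy⟩⟩)

theorem le_of_cen_le (hH : H ≤ G) (hAH : A ≤ normalizer (H : Set X)) {K : Subgroup X}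
    (h : ∀ a ∈ A, a ≠ 1 → H ⊓ centralizer ({a} : Set X) ≤ K) : H ≤ K := by
  haveI := hS.comm
  exact (le_iSup_centralizer_of_not_isCyclic hS.notCyclic hAH (hS.coprime hH)).trans
    (iSup_le fun a => h a.1 a.2.1 a.2.2)

theorem exists_cen_ne_bot (hH : H ≤ G) (hAH : A ≤ normalizer (H : Set X)) (hne : H ≠ ⊥) :
    ∃ a ∈ A, a ≠ 1 ∧ H ⊓ centralizer ({a} : Set X) ≠ ⊥ := by
  by_contra h
  push Not at h
  exact hne (eq_bot_iff.mpr (hS.le_of_cen_le hH hAH fun a ha ha1 => (h a ha ha1).le))

end Setup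

end Cfsg.Lib.Coprime.Ward
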