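import Cfsg.Agent.Lib.Coprime.Ward.Pair
import Cfsg.Agent.Lib.Solv.Product
import Cfsg.Agent.S0144

/-!
# A group with abelian fixed-point subgroups of a coprime group of order `r ^ 2` is solvable

* `Ward.isSolvable`.
-/

set_option autoImplicit false
set_option linter.style.haveILetI false

namespace Cfsg.Lib.Coprime.Ward

open Subgroup Cfsg
open scoped commutatorElement Pointwise IsMulCommutative

universe u

variable {X : Type u} [Group X]

/-- The carrier of a join of permuting subgroups is their product set. -/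
theorem coe_sup_of_mul_comm {H K : Subgroup X} (h : (H : Set X) * K = (K : Set X) * H) :
    ((H ⊔ K : Subgroup X) : Set X) = (H : Set X) * K := by
  let L : Subgroup X :=
    { carrier := (H : Set X) * K
      one_mem' := ⟨1, one_mem H, 1, one_mem K, one_mul 1⟩
      mul_mem' := by
        rintro _ _ ⟨a, ha, b, hb, rfl⟩ ⟨c, hc, d, hd, rfl⟩
        obtain ⟨c', hc', b', hb', he⟩ : b * c ∈ (H : Set X) * K := h ▸ ⟨b, hb, c, hc, rfl⟩
        exact ⟨a * c', H.mul_mem ha hc', b' * d, K.mul_mem hb' hd, by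
          show a * c' * (b' * d) = a * b * (c * d)
          calc a * c' * (b' * d) = a * (c' * b') * d := by group
            _ = a * (b * c) * d := by rw [show c' * b' = b * c from he]
            _ = a * b * (c * d) := by group⟩
      inv_mem' := by
        rintro _ ⟨a, ha, b, hb, rfl⟩
        show (a * b)⁻¹ ∈ (H : Set X) * K
        rw [h, mul_inv_rev]
        exact ⟨b⁻¹, K.inv_mem hb, a⁻¹, H.inv_mem ha, rfl⟩ }
  refine le_antisymm ?_ (Set.mul_subset_iff.mpr fun a ha b hb => mul_mem_sup ha hb)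
  exact (sup_le (fun a ha => (⟨a, ha, 1, one_mem K, mul_one a⟩ : a ∈ (H : Set X) * K))
    (fun b hb => ⟨1, one_mem H, b, hb, one_mul b⟩) : H ⊔ K ≤ L)

variable [Finite X] {G A : Subgroup X} {r : ℕ}

theorem Setup.mono (hS : Setup G A r) {H : Subgroup X} (hH : H ≤ G)
    (hAH : A ≤ normalizer (H : Set X)) : Setup H A r :=
  ⟨hS.prime, hS.card, hS.notCyclic, hAH, fun h => hS.cop (h.trans (card_dvd_of_le hH)),
    fun _ ha ha1 => hS.cen_comm hH ha ha1⟩

namespace MinCE

variable (hS : MinCE G A r)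

include hS

/-- Any two invariant Sylow subgroups permute. -/
theorem mul_comm_sylow {p q : ℕ} [hp : Fact p.Prime] [hq : Fact q.Prime] (hd : p ∣ Nat.card G)
    (hd' : q ∣ Nat.card G) {P Q : Subgroup X} (hP : InvSyl G A p P) (hQ : InvSyl G A q Q) :
    (P : Set X) * Q = (Q : Set X) * P := by
  by_cases hne : p = q
  · subst hne
    rw [le_antisymm (hQ.max P hP.le hP.pg hP.inv) (hP.max Q hQ.le hQ.pg hQ.inv)]
  obtain ⟨H, hH, hPH, hQH⟩ : ∃ H, PairSub G A p q H ∧ P ≤ H ∧ Q ≤ H := by
    by_contra hc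
    have c : Ctx G A r p q P Q := ⟨hS, hp.out, hq.out, hne, hd, hd', hP, hQ, hc⟩
    rcases eq_or_ne p 2 with rfl | h2
    · exact c.symm.false (Ne.symm hne)
    · exact c.false h2
  have hcard : ∀ (P Q : Subgroup X) (p q : ℕ), p.Prime → q.Prime → p ≠ q → InvSyl G A p P →
      InvSyl G A q Q → PairSub G A p q H → P ≤ H → Q ≤ H → (P : Set X) * Q = (H : Set X) := by
    intro P Q p q hp hq hne hP hQ hH hPH hQH
    haveI := Fact.mk hp
    haveI := Fact.mk hq
    have hsub : (P : Set X) * Q ⊆ H := Set.mul_subset_iff.mpr fun a ha b hb =>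
      H.mul_mem (hPH ha) (hQH hb)
    refine Set.eq_of_subset_of_ncard_le hsub ?_ (Set.toFinite _)
    rw [← Nat.card_coe_set_eq, ← Nat.card_coe_set_eq, Solv.card_mul_set, ← inf_relIndex_right,
      eq_bot_of_isPGroup_two (hQ.pg.to_le inf_le_left) (hP.pg.to_le inf_le_right) (Ne.symm hne),
      relIndex_bot_left]
    show Nat.card H ≤ Nat.card Q * Nat.card P
    have h1 := hP.inf hS hH.1 hH.2.1
    rw [inf_eq_left.mpr hPH] at h1
    have h2 := hQ.inf hS hH.1 hH.2.1
    rw [inf_eq_left.mpr hQH] at h2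
    have e1 := Core.card_mul_relIndex hPH
    have e2 := Core.card_mul_relIndex hQH
    have hi0 : P.relIndex H ≠ 0 := fun h0 => Nat.card_pos.ne' (e1.symm.trans (by rw [h0, mul_zero]))
    obtain ⟨k, hk⟩ : ∃ k, P.relIndex H = q ^ k :=
      ⟨_, Nat.eq_prime_pow_of_unique_prime_dvd hi0 fun {d} hd hdd =>
        (hH.2.2 d hd (hdd.trans (relIndex_dvd_card P H))).resolve_left fun e => h1 (e ▸ hdd)⟩
    have h3 : P.relIndex H ∣ Nat.card Q := by
      rw [hk]
      exact (((Nat.Prime.coprime_iff_not_dvd hq).mpr h2).pow_left k).dvd_of_dvd_mul_right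
        (e2 ▸ hk ▸ Dvd.intro_left _ e1)
    rw [← e1, mul_comm (Nat.card Q)]
    exact Nat.mul_le_mul_left _ (Nat.le_of_dvd Nat.card_pos h3)
  rw [hcard P Q p q hp.out hq.out hne hP hQ hH hPH hQH,
    hcard Q P q p hq.out hp.out (Ne.symm hne) hQ hP hH.symm hQH hPH]

/-- The product of the invariant Sylow subgroups for a set of primes. -/
theorem exists_product (σ : Finset ℕ) (hσ : ∀ t ∈ σ, t.Prime ∧ t ∣ Nat.card G) :
    ∃ J : Subgroup X, J ≤ G ∧ A ≤ normalizer (J : Set X) ∧
      (∀ t ∈ σ, ∀ S, InvSyl G A t S → S ≤ J) ∧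
      (∀ s : ℕ, s.Prime → s ∣ Nat.card J → s ∈ σ) ∧
      ∀ s : ℕ, s.Prime → s ∣ Nat.card G → ∀ S, InvSyl G A s S → (S : Set X) * J = (J : Set X) * S := by
  classical
  induction σ using Finset.induction_on with
  | empty =>
    refine ⟨⊥, bot_le, le_normalizer_of_normal, by simp, fun s hs hd => ?_, fun s _ _ S _ => ?_⟩
    · rw [card_bot] at hd
      exact absurd (Nat.le_of_dvd one_pos hd) (not_le.mpr hs.one_lt)
    · simp
  | insert t σ _ ih =>
    obtain ⟨J, hJG, hAJ, hJ1, hJ2, hJ3⟩ := ih fun s hs => hσ s (Finset.mem_insert_of_mem hs)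
    obtain ⟨ht, htd⟩ := hσ t (Finset.mem_insert_self t σ)
    haveI := Fact.mk ht
    obtain ⟨T, hT⟩ := hS.exists_invSyl t
    have hcomm := (hJ3 t ht htd T hT).symm
    have hcoe := coe_sup_of_mul_comm hcomm
    refine ⟨J ⊔ T, sup_le hJG hT.le, (le_inf hAJ hT.inv).trans (normalizer_inf_normalizer_le_normalizer_sup J T),
      fun s hs S hS' => ?_, fun s hs hd => ?_, fun s hs hsd S hS' => ?_⟩
    · rcases Finset.mem_insert.mp hs with rfl | hs
      · exact (hT.max S hS'.le hS'.pg hS'.inv).trans le_sup_right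
      · exact (hJ1 s hs S hS').trans le_sup_left
    · have hd' : s ∣ Nat.card T * T.relIndex J := by
        rwa [← Solv.card_mul_set, ← hcoe]
      rcases hs.dvd_mul.mp hd' with h | h
      · obtain ⟨k, hk⟩ := IsPGroup.iff_card.mp hT.pg
        rw [(Nat.prime_dvd_prime_iff_eq hs ht).mp (hs.dvd_of_dvd_pow (hk ▸ h))]
        exact Finset.mem_insert_self t σ
      · exact Finset.mem_insert_of_mem (hJ2 s hs (h.trans (relIndex_dvd_card T J)))
    · haveI := Fact.mk hs
      rw [hcoe, ← mul_assoc, hJ3 s hs hsd S hS', mul_assoc, hS.mul_comm_sylow hsd htd hS' hT,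
        ← mul_assoc]

/-- There is no minimal example. -/
theorem false : False := by
  classical
  set π := (Nat.card G).primeFactors with hπ
  have hmem : ∀ {t}, t ∈ π ↔ t.Prime ∧ t ∣ Nat.card G := fun {t} => by
    rw [hπ, Nat.mem_primeFactors]
    exact ⟨fun h => ⟨h.1, h.2.1⟩, fun h => ⟨h.1, h.2, Nat.card_pos.ne'⟩⟩
  obtain ⟨q₁, hq₁⟩ : π.Nonempty := by
    by_contra h
    have : Nat.card G = 1 := by
      by_contra h1
      obtain ⟨t, ht, hd⟩ := Nat.exists_prime_and_dvd h1
      exact h ⟨t, hmem.mpr ⟨ht, hd⟩⟩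
    haveI := (Nat.card_eq_one_iff_unique.mp this).1
    exact hS.nonsolv (Group.isSolvable_of_comm fun _ _ => Subsingleton.elim _ _)
  obtain ⟨hq₁p, hq₁d⟩ := hmem.mp hq₁
  haveI := Fact.mk hq₁p
  obtain ⟨H₁, hH₁G, hAH₁, hH₁S, hH₁π, -⟩ := hS.exists_product (π.erase q₁)
    fun t ht => hmem.mp (Finset.mem_of_mem_erase ht)
  have hH₁ : H₁ < G := lt_of_le_of_ne hH₁G fun e =>
    Finset.ne_of_mem_erase (hH₁π q₁ hq₁p (e ▸ hq₁d)) rfl
  haveI := hS.solv H₁ hH₁ hAH₁
  obtain ⟨p, hp, hU⟩ : ∃ p, p.Prime ∧ pCoreOf p H₁ ≠ ⊥ := by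
    by_contra hc
    push Not at hc
    have hF : fittingSubgroup H₁ = ⊥ := by
      rw [Core.fittingSubgroup_eq_iSup_pCore, eq_bot_iff]
      refine iSup_le fun t => ?_
      have := hc t t.2
      rw [pCoreOf, Subgroup.map_eq_bot_iff_of_injective _ H₁.subtype_injective] at this
      rw [this]
    have htop : (⊤ : Subgroup H₁) = ⊥ := by
      rw [← hF]
      refine le_antisymm (fun x _ => Core.centralizer_fitting_le_of_isSolvable
        (mem_centralizer_iff.mpr fun y hy => ?_)) le_top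
      rw [hF, SetLike.mem_coe, mem_bot] at hy
      rw [hy, one_mul, mul_one]
    have h1 : H₁ = ⊥ := by
      rw [eq_bot_iff]
      intro x hx
      have : (⟨x, hx⟩ : H₁) ∈ (⊥ : Subgroup H₁) := htop ▸ mem_top _
      exact mem_bot.mpr (congrArg Subtype.val (mem_bot.mp this))
    -- then `G` is a `q₁`-group
    have hq : IsPGroup q₁ G := by
      refine IsPGroup.of_card (Nat.eq_prime_pow_of_unique_prime_dvd Nat.card_pos.ne' fun {d} hd hdd => ?_)
      by_contra hne
      haveI := Fact.mk hd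
      obtain ⟨S, hS'⟩ := hS.exists_invSyl d
      exact hS'.ne_bot hdd (le_bot_iff.mp (h1 ▸ hH₁S d (Finset.mem_erase.mpr ⟨hne, hmem.mpr ⟨hd, hdd⟩⟩) S hS'))
    haveI := hq.isNilpotent
    exact hS.nonsolv inferInstance
  haveI := Fact.mk hp
  set U := pCoreOf p H₁ with hUdef
  have hUG : U ≤ G := (Local.pCoreOf_le H₁).trans hH₁G
  have hUp : IsPGroup p U := Local.pCoreOf_isPGroup H₁
  have hAU : A ≤ normalizer (U : Set X) := hAH₁.trans (Local.normalizer_le_normalizer_pCoreOf H₁)
  have hpd : p ∣ Nat.card U := by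
    obtain ⟨k, hk⟩ := IsPGroup.iff_card.mp hUp
    exact hk ▸ dvd_pow_self p fun h0 => hU (eq_bot_of_card_eq _ (by rw [hk, h0, pow_zero]))
  have hpπ : p ∈ π.erase q₁ := hH₁π p hp (hpd.trans (card_dvd_of_le (Local.pCoreOf_le H₁)))
  obtain ⟨q₂, hq₂, hq₂1, hq₂p⟩ : ∃ q₂ ∈ π, q₂ ≠ q₁ ∧ q₂ ≠ p := by
    by_contra hc
    push Not at hc
    refine hS.nonsolv ?_
    have hfac : ∀ d : ℕ, d.Prime → d ∣ Nat.card G → d = q₁ ∨ d = p := fun d hd hdd => by
      by_contra hne
      push Not at hne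
      exact hne.2 (hc d (hmem.mpr ⟨hd, hdd⟩) hne.1)
    refine Cfsg.Agent.S0144.result q₁ p ((Nat.card G).factorization q₁) ((Nat.card G).factorization p)
      hq₁p hp ?_
    have hsub : (Nat.card G).primeFactors ⊆ {q₁, p} := fun d hd => by
      obtain ⟨h1, h2⟩ := hmem.mp hd
      simpa using hfac d h1 h2
    conv_lhs => rw [← Nat.prod_factorization_pow_eq_self (Nat.card_pos.ne' : Nat.card G ≠ 0)]
    rw [Finsupp.prod, Nat.support_factorization, Finset.prod_subset hsub fun d _ hd => by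
      rw [Finsupp.notMem_support_iff.mp (by rwa [Nat.support_factorization]), pow_zero],
      Finset.prod_pair (Finset.ne_of_mem_erase hpπ).symm]
  obtain ⟨hq₂pr, hq₂d⟩ := hmem.mp hq₂
  obtain ⟨H₂, hH₂G, hAH₂, hH₂S, hH₂π, -⟩ := hS.exists_product (π.erase q₂)
    fun t ht => hmem.mp (Finset.mem_of_mem_erase ht)
  have hUH₂ : U ≤ H₂ := by
    obtain ⟨S, hS'⟩ := hS.exists_invSyl p
    exact (hS'.max U hUG hUp hAU).trans
      (hH₂S p (Finset.mem_erase.mpr ⟨hq₂p.symm, Finset.mem_of_mem_erase hpπ⟩) S hS')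
  -- `G = H₁ H₂`
  have hGH : (G : Set X) = (H₂ : Set X) * H₁ := by
    symm
    refine Set.eq_of_subset_of_ncard_le
      (Set.mul_subset_iff.mpr fun a ha b hb => G.mul_mem (hH₂G ha) (hH₁G hb)) ?_ (Set.toFinite _)
    rw [← Nat.card_coe_set_eq, ← Nat.card_coe_set_eq, Solv.card_mul_set]
    show Nat.card G ≤ _
    have hpos : 0 < Nat.card H₁ * H₁.relIndex H₂ := Nat.mul_pos Nat.card_pos
      (Nat.pos_of_ne_zero fun h0 => Nat.card_pos.ne'
        (Nat.eq_zero_of_zero_dvd (h0 ▸ relIndex_dvd_card H₁ H₂) : Nat.card H₂ = 0))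
    refine Nat.le_of_dvd hpos ((Nat.dvd_iff_prime_pow_dvd_dvd _ _).mpr fun t k ht hk => ?_)
    haveI := Fact.mk ht
    rcases Nat.eq_zero_or_pos k with rfl | hk0
    · simp
    have htd : t ∣ Nat.card G := (dvd_pow_self t hk0.ne').trans hk
    obtain ⟨S, hS'⟩ := hS.exists_invSyl t
    have hSk : t ^ k ∣ Nat.card S := by
      rw [← Core.card_mul_relIndex hS'.le] at hk
      exact (((ht.coprime_iff_not_dvd).mpr hS'.hall).pow_left k).dvd_of_dvd_mul_right hk
    refine hSk.trans ?_
    by_cases ht1 : t = q₁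
    · subst ht1
      have hle : S ≤ H₂ := hH₂S _ (Finset.mem_erase.mpr ⟨fun e => hq₂1 e.symm, hq₁⟩) S hS'
      have hb : H₁ ⊓ S = ⊥ := by
        rw [inf_comm, hS'.dvd_iff hS hH₁G hAH₁]
        exact fun hd => Finset.ne_of_mem_erase (hH₁π _ ht hd) rfl
      refine Dvd.dvd.mul_left ?_ _
      rw [← inf_relIndex_right]
      have h1 : Nat.card S ∣ Nat.card ↥(H₁ ⊓ H₂) * (H₁ ⊓ H₂).relIndex H₂ := by
        rw [Core.card_mul_relIndex inf_le_right]
        exact card_dvd_of_le hle
      refine Nat.Coprime.dvd_of_dvd_mul_left ?_ h1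
      obtain ⟨j, hj⟩ := IsPGroup.iff_card.mp hS'.pg
      rw [hj]
      refine Nat.Coprime.pow_left j (ht.coprime_iff_not_dvd.mpr fun hd => ?_)
      exact (hS'.dvd_iff hS hH₁G hAH₁).mp (by rwa [inf_comm]) (hd.trans (card_dvd_of_le inf_le_left))
    · exact Dvd.dvd.mul_right (card_dvd_of_le
        (hH₁S t (Finset.mem_erase.mpr ⟨ht1, hmem.mpr ⟨ht, htd⟩⟩) S hS')) _
  -- the normal closure of `U`
  set K := ⨅ g : G, H₂.map (MulAut.conj (g : X)).toMonoidHom with hKdef
  have hKle : K ≤ H₂ := by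
    refine (iInf_le _ (1 : G)).trans (le_of_eq ?_)
    rw [show ((1 : G) : X) = 1 from rfl, map_conj_one]
  have hKn : ∀ h : X, h ∈ normalizer (G : Set X) → h ∈ normalizer (H₂ : Set X) ∨ h ∈ G →
      ∀ x ∈ K, h * x * h⁻¹ ∈ K := by
    intro h hG hor x hx
    rw [hKdef, mem_iInf] at hx ⊢
    intro g
    rw [mem_map_conj_iff]
    rcases hor with h2 | h2
    · have hg : h⁻¹ * g * h ∈ G := (mem_normalizer_iff''.mp hG g).mp g.2
      have := hx ⟨_, hg⟩
      rw [mem_map_conj_iff] at this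
      have h3 := (mem_normalizer_iff.mp h2 _).mp this
      refine (congrArg (· ∈ H₂) ?_).mp h3
      group
    · have := hx ⟨h⁻¹ * g, G.mul_mem (G.inv_mem h2) g.2⟩
      rw [mem_map_conj_iff] at this
      refine (congrArg (· ∈ H₂) ?_).mp this
      group
  have hGK : G ≤ normalizer (K : Set X) := le_normalizer_iff.mpr fun g hg x hx =>
    hKn g (le_normalizer hg) (Or.inr hg) x hx
  have hAK : A ≤ normalizer (K : Set X) := le_normalizer_iff.mpr fun a ha x hx =>
    hKn a (hS.norm ha) (Or.inl (hAH₂ ha)) x hx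
  have hUK : U ≤ K := by
    intro u hu
    rw [hKdef, mem_iInf]
    intro g
    obtain ⟨b, hb, a, ha, he⟩ : (g : X)⁻¹ ∈ (H₂ : Set X) * H₁ := hGH ▸ G.inv_mem g.2
    rw [mem_map_conj_iff]
    have hau : a * u * a⁻¹ ∈ U := (mem_normalizer_iff.mp (Local.le_normalizer_pCoreOf H₁ ha) u).mp hu
    have hge : (g : X) = a⁻¹ * b⁻¹ := by rw [← mul_inv_rev, show b * a = (g : X)⁻¹ from he, inv_inv]
    rw [hge]
    refine (congrArg (· ∈ H₂) ?_).mp (H₂.mul_mem (H₂.mul_mem hb (hUH₂ hau)) (H₂.inv_mem hb))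
    group
  rcases hS.nonormal K (hKle.trans hH₂G) hAK hGK with h | h
  · exact hU (le_bot_iff.mp (h ▸ hUK))
  · exact Finset.ne_of_mem_erase (hH₂π q₂ hq₂pr ((le_antisymm hH₂G (h ▸ hKle)).symm ▸ hq₂d)) rfl

end MinCE

/-- The theorem, in ambient form. -/
theorem isSolvable {r : ℕ} : ∀ (n : ℕ) (X : Type u) [Group X] [Finite X] (G A : Subgroup X),
    Nat.card G = n → Setup G A r → Group.IsSolvable G := by
  intro n
  induction n using Nat.strong_induction_on with
  | _ n ih =>
  intro X _ _ G A hn hS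
  by_contra hns
  have hsolv : ∀ H : Subgroup X, H < G → A ≤ normalizer (H : Set X) → Group.IsSolvable H :=
    fun H hH hAH => ih _ (hn ▸ Set.Finite.card_lt_card (Set.toFinite _) hH) X H A rfl (hS.mono hH.le hAH)
  have hnn : ∀ N : Subgroup X, N ≤ G → A ≤ normalizer (N : Set X) →
      G ≤ normalizer (N : Set X) → N = ⊥ ∨ N = G := by
    intro N hNG hAN hGN
    by_contra hc
    push Not at hc
    obtain ⟨h0, hG⟩ := hc
    set H := normalizer (N : Set X) with hH
    haveI hNn : (N.subgroupOf H).Normal :=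
      (normal_subgroupOf_iff_le_normalizer le_normalizer).mpr le_rfl
    set f := QuotientGroup.mk' (N.subgroupOf H)
    set G' := G.subgroupOf H
    set A' := A.subgroupOf H
    let fG : G →* H ⧸ N.subgroupOf H := f.comp (inclusion hGN)
    let fA : A →* H ⧸ N.subgroupOf H := f.comp (inclusion hAN)
    have hfA : Function.Injective fA := by
      rw [← MonoidHom.ker_eq_bot_iff, eq_bot_iff]
      intro a ha
      have h1 : (a : X) ∈ N := (QuotientGroup.eq_one_iff (N := N.subgroupOf H) (inclusion hAN a)).mp ha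
      exact mem_bot.mpr (Subtype.ext (disjoint_def.mp
        (disjoint_of_coprime_card (hS.coprime hNG)) a.2 h1))
    have hA'r : A'.map f = fA.range := by
      ext y
      constructor
      · rintro ⟨a, ha, rfl⟩; exact ⟨⟨a, ha⟩, rfl⟩
      · rintro ⟨a, rfl⟩; exact ⟨inclusion hAN a, a.2, rfl⟩
    have hG'r : G'.map f = fG.range := by
      ext y
      constructor
      · rintro ⟨a, ha, rfl⟩; exact ⟨⟨a, ha⟩, rfl⟩
      · rintro ⟨a, rfl⟩; exact ⟨inclusion hGN a, a.2, rfl⟩
    have hker : fG.ker = N.subgroupOf G := by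
      ext x
      exact QuotientGroup.eq_one_iff (inclusion hGN x)
    have hcardG : Nat.card (G'.map f) * Nat.card N = Nat.card G := by
      rw [hG'r, ← Nat.card_congr (QuotientGroup.quotientKerEquivRange fG).toEquiv,
        ← Nat.card_congr (subgroupOfEquivOfLe hNG).toEquiv, hker,
        ← card_eq_card_quotient_mul_card_subgroup]
    have hA'n : A' ≤ normalizer (G' : Set H) := fun a ha =>
      mem_normalizer_iff.mpr fun x => mem_normalizer_iff.mp (hS.norm ha) (x : X)
    have hcoA : Nat.card A' = Nat.card A := Nat.card_congr (subgroupOfEquivOfLe hAN).toEquiv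
    have hcoG : Nat.card G' = Nat.card G := Nat.card_congr (subgroupOfEquivOfLe hGN).toEquiv
    have hS' : Setup (G'.map f) (A'.map f) r := by
      refine ⟨hS.prime, ?_, ?_, (map_mono hA'n).trans (le_normalizer_map f), ?_, ?_⟩
      · rw [hA'r, ← Nat.card_congr (MonoidHom.ofInjective hfA).toEquiv, hS.card]
      · intro hc'
        rw [hA'r] at hc'
        exact hS.notCyclic (isCyclic_of_injective (MonoidHom.ofInjective hfA).toMonoidHom
          (MonoidHom.ofInjective hfA).injective)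
      · exact fun h => hS.cop (h.trans (Dvd.intro _ hcardG))
      · rintro _ ⟨a, ha, rfl⟩ ha1
        have haX : (a : X) ≠ 1 := fun e => ha1 (by rw [show a = 1 from Subtype.ext e, map_one])
        haveI := hS.comm
        have hcz : (Nat.card (zpowers a)).Coprime (Nat.card G') := by
          rw [hcoG, Nat.card_zpowers, ← Subgroup.orderOf_coe, ← Nat.card_zpowers]
          exact hS.coprime_zpowers le_rfl ha
        have h1 := map_inf_centralizer_eq f ((zpowers_le.mpr ha).trans hA'n) hcz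
          (Or.inl (Local.isSolvable_zpowers a))
        rw [MonoidHom.map_zpowers, centralizer_zpowers, centralizer_zpowers] at h1
        rw [← h1]
        haveI : IsMulCommutative ↥(G' ⊓ centralizer ({a} : Set H)) := ⟨⟨fun x y => by
          obtain ⟨x, hx1, hx2⟩ := x
          obtain ⟨y, hy1, hy2⟩ := y
          exact Subtype.ext (Subtype.ext (hS.commute_of_cen ha haX hx1 hy1
            (congrArg Subtype.val (mem_centralizer_iff.mp hx2 a rfl))
            (congrArg Subtype.val (mem_centralizer_iff.mp hy2 a rfl))))⟩⟩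
        infer_instance
    have hlt : Nat.card (G'.map f) < n := by
      rw [← hn, ← hcardG]
      exact lt_mul_of_one_lt_right Nat.card_pos (one_lt_card_iff_ne_bot N |>.mpr h0)
    haveI h1 := ih _ hlt _ _ _ rfl hS'
    haveI := hsolv N (lt_of_le_of_ne hNG hG) hAN
    haveI : Group.IsSolvable fG.range := hG'r ▸ h1
    exact hns (Group.isSolvable_of_ker_le_range (inclusion hNG) fG.rangeRestrict (by
      rw [MonoidHom.ker_rangeRestrict, hker]; exact fun x hx => ⟨⟨x, hx⟩, rfl⟩))
  have hfix : G ⊓ centralizer (A : Set X) = ⊥ := by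
    have hc : G ≤ centralizer ((G ⊓ centralizer (A : Set X) : Subgroup X) : Set X) :=
      hS.le_of_cen_le le_rfl hS.norm fun a ha ha1 x hx => mem_centralizer_iff.mpr fun y hy =>
        hS.commute_of_cen ha ha1 hy.1 hx.1 (mem_centralizer_iff.mp hy.2 a ha)
          (mem_centralizer_iff.mp hx.2 a rfl)
    rcases hnn _ inf_le_left
      (inv_centralizer_inf hS.norm le_normalizer) (hc.trans (centralizer_le_normalizer _)) with h | h
    · exact h
    · rw [h] at hc
      exact absurd (Group.isSolvable_of_comm (G := G) fun x y =>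
        Subtype.ext (mem_centralizer_iff.mp (hc y.2) x x.2)) hns
  exact (MinCE.mk hS hsolv hns hnn hfix).false

end Cfsg.Lib.Coprime.Ward
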