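import Cfsg.Agent.Lib.Coprime.Ward.Basic
import Cfsg.Agent.Lib.PGroup.Basic
import Mathlib.Algebra.BigOperators.GroupWithZero.Action

/-!
# The module lemma

If a coprime `p`-group `T` of fixed points of `a` acts on a `q`-group `V`, then `[V, T]` is
generated by the `T`-conjugates of its fixed points under any `b` independent of `a`.
-/

set_option autoImplicit false
set_option linter.style.haveILetI false

namespace Cfsg.Lib.Coprime.Ward

open Subgroup
open scoped commutatorElement

universe u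

/-- Averaging over a group with a fixed-point-free operator. -/
theorem mem_of_avg {W Γ : Type*} [CommGroup W] [Group Γ] (φ : Γ →* Monoid.End W) (T : Subgroup Γ)
    [Fintype T] (M : Subgroup W) (hM : ∀ t ∈ T, ∀ m ∈ M, φ t m ∈ M) {b : Γ} {r : ℕ} (hr : 0 < r)
    (hbr : b ^ r = 1) (hbT : ∀ t ∈ T, b * t * b⁻¹ ∈ T)
    (hfpf : ∀ i, 0 < i → i < r → ∀ t ∈ T, b ^ i * t = t * b ^ i → t = 1)
    (hnorm : ∀ w, ∏ t : T, φ t w = 1) (hfix : ∀ w, φ b w = w → w ∈ M)
    (hcop : (Fintype.card T).Coprime (Nat.card W)) (w : W) : w ∈ M := by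
  classical
  have happ : ∀ g h v, φ (g * h) v = φ g (φ h v) := fun g h v => map_mul_apply φ g h v
  have hone : ∀ v, φ 1 v = v := fun v => by rw [map_one]; rfl
  have hsum : ∀ v, ∏ i ∈ Finset.range r, φ (b ^ i) v ∈ M := by
    intro v
    refine hfix _ ?_
    rw [map_prod]
    have h1 : ∀ i, φ b (φ (b ^ i) v) = φ (b ^ (i + 1)) v := fun i => by rw [← happ, ← pow_succ']
    simp only [h1]
    obtain ⟨m, rfl⟩ := Nat.exists_eq_succ_of_ne_zero hr.ne'
    rw [Finset.prod_range_succ, Finset.prod_range_succ' (fun i => φ (b ^ i) v) m]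
    rw [hbr, pow_zero]
  have hbiT : ∀ (i : ℕ) (t : Γ), t ∈ T → b ^ i * t * (b ^ i)⁻¹ ∈ T := by
    intro i
    induction i with
    | zero => intro t ht; simpa using ht
    | succ i ih =>
      intro t ht
      have := hbT _ (ih t ht)
      rwa [pow_succ', mul_inv_rev, show b * b ^ i * t * ((b ^ i)⁻¹ * b⁻¹) =
        b * (b ^ i * t * (b ^ i)⁻¹) * b⁻¹ by group]
  have hT : ∀ u : T, ∏ i ∈ Finset.range r, φ ((u : Γ) * b ^ i * (u : Γ)⁻¹) w ∈ M := by
    intro u
    have h1 := hM u u.2 _ (hsum (φ (u : Γ)⁻¹ w))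
    rw [map_prod] at h1
    refine (congrArg (· ∈ M) (Finset.prod_congr rfl fun i _ => ?_)).mp h1
    rw [← happ, ← happ, mul_assoc]
  have htot : ∏ u : T, ∏ i ∈ Finset.range r, φ ((u : Γ) * b ^ i * (u : Γ)⁻¹) w ∈ M :=
    prod_mem fun u _ => hT u
  rw [Finset.prod_comm, Finset.prod_eq_single 0 (fun i hi hi0 => ?_)
    (fun h => absurd (Finset.mem_range.mpr hr) h)] at htot
  · have hw : w ^ Fintype.card T ∈ M := by
      refine (congrArg (· ∈ M) ?_).mp htot
      simp
    obtain ⟨n, hn⟩ : ∃ n : ℤ, (w ^ Fintype.card T) ^ n = w := by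
      refine ⟨(Fintype.card T).gcdA (Nat.card W), ?_⟩
      have h := Nat.gcd_eq_gcd_ab (Fintype.card T) (Nat.card W)
      rw [hcop.gcd_eq_one] at h
      conv_rhs => rw [← zpow_one w, show ((1 : ℤ)) = ((1 : ℕ) : ℤ) from rfl, h, zpow_add, zpow_mul,
        zpow_mul, zpow_natCast, zpow_natCast, pow_card_eq_one', one_zpow, mul_one]
    exact hn ▸ zpow_mem hw n
  · have hi' := Finset.mem_range.mp hi
    have hc : ∀ u : T, (u : Γ) * b ^ i * (u : Γ)⁻¹ * (b ^ i)⁻¹ ∈ T := fun u => by
      rw [show (u : Γ) * b ^ i * (u : Γ)⁻¹ * (b ^ i)⁻¹ =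
        (u : Γ) * (b ^ i * (u : Γ)⁻¹ * (b ^ i)⁻¹) by group]
      exact mul_mem u.2 (hbiT i _ (inv_mem u.2))
    have hinj : Function.Injective fun u : T => (⟨_, hc u⟩ : T) := by
      intro u v huv
      have h1 : (u : Γ) * b ^ i * (u : Γ)⁻¹ * (b ^ i)⁻¹ = (v : Γ) * b ^ i * (v : Γ)⁻¹ * (b ^ i)⁻¹ :=
        congrArg Subtype.val huv
      have h1' := mul_right_cancel h1
      have h2 : ((v : Γ)⁻¹ * u) = 1 := by
        refine hfpf i (Nat.pos_of_ne_zero hi0) hi' _ (mul_mem (inv_mem v.2) u.2) ?_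
        calc b ^ i * ((v : Γ)⁻¹ * u) = (v : Γ)⁻¹ * ((v : Γ) * b ^ i * (v : Γ)⁻¹) * u := by group
          _ = (v : Γ)⁻¹ * ((u : Γ) * b ^ i * (u : Γ)⁻¹) * u := by rw [h1']
          _ = (v : Γ)⁻¹ * u * b ^ i := by group
      exact Subtype.ext (inv_mul_eq_one.mp h2).symm
    have hbij : Function.Bijective fun u : T => (⟨_, hc u⟩ : T) :=
      (Finite.injective_iff_bijective).mp hinj
    rw [← hnorm (φ (b ^ i) w)]
    refine Fintype.prod_bijective _ hbij _ _ fun u => ?_
    rw [← happ]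
    simp [mul_assoc]

variable {X : Type u} [Group X] [Finite X]

/-- The norm of an operator group vanishes on an abelian image of `[V, T]`. -/
theorem norm_abelianization {V T : Subgroup X} (hTV : T ≤ normalizer (V : Set X))
    (hV : V ≤ ⁅V, T⁆) [Fintype (T.subgroupOf (normalizer (V : Set X)))]
    (w : Abelianization V) :
    ∏ t : T.subgroupOf (normalizer (V : Set X)),
      abAction (le_refl (normalizer (V : Set X))) t w = 1 := by
  set φ := abAction (le_refl (normalizer (V : Set X)))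
  suffices h : ∀ (x : X) (hx : x ∈ V), ∏ t : T.subgroupOf (normalizer (V : Set X)), φ t (Abelianization.of ⟨x, hx⟩) = 1 by
    obtain ⟨⟨x, hx⟩, rfl⟩ := QuotientGroup.mk_surjective w
    exact h x hx
  let N : V →* Abelianization V :=
    { toFun := fun x => ∏ t : T.subgroupOf (normalizer (V : Set X)), φ t (Abelianization.of x)
      map_one' := by simp
      map_mul' := fun x y => by simp [Finset.prod_mul_distrib] }
  suffices h : ∀ x ∈ ⁅V, T⁆, ∃ hx : x ∈ V, N ⟨x, hx⟩ = 1 from fun x hx => (h x (hV hx)).2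
  intro x hx
  rw [Subgroup.commutator_def] at hx
  induction hx using closure_induction with
  | mem x hx =>
    obtain ⟨v, hv, t, ht, rfl⟩ := hx
    have htv : t * v * t⁻¹ ∈ V := (mem_normalizer_iff.mp (hTV ht) v).mp hv
    have hmem : ⁅v, t⁆ ∈ V := by
      rw [show ⁅v, t⁆ = v * (t * v * t⁻¹)⁻¹ by rw [commutatorElement_def]; group]
      exact mul_mem hv (inv_mem htv)
    refine ⟨hmem, ?_⟩
    have he : (⟨⁅v, t⁆, hmem⟩ : V) = ⟨v, hv⟩ * (⟨t * v * t⁻¹, htv⟩ : V)⁻¹ := Subtype.ext (by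
      show ⁅v, t⁆ = v * (t * v * t⁻¹)⁻¹
      rw [commutatorElement_def]; group)
    rw [he, map_mul, map_inv, mul_inv_eq_one]
    show ∏ s : T.subgroupOf (normalizer (V : Set X)), φ s (Abelianization.of (⟨v, hv⟩ : V)) =
      ∏ s : T.subgroupOf (normalizer (V : Set X)), φ s (Abelianization.of (⟨t * v * t⁻¹, htv⟩ : V))
    symm
    refine Fintype.prod_equiv (Equiv.mulRight (⟨⟨t, hTV ht⟩, ht⟩ : T.subgroupOf (normalizer (V : Set X)))) _ _ fun s => ?_
    show φ s (Abelianization.of (⟨t * v * t⁻¹, htv⟩ : V)) =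
      φ ((s : normalizer (V : Set X)) * ⟨t, hTV ht⟩) (Abelianization.of (⟨v, hv⟩ : V))
    rw [map_mul_apply]
    rfl
  | one => exact ⟨one_mem _, map_one N⟩
  | mul x y _ _ hx hy =>
    obtain ⟨hx, hNx⟩ := hx
    obtain ⟨hy, hNy⟩ := hy
    exact ⟨mul_mem hx hy, by
      rw [show (⟨x * y, mul_mem hx hy⟩ : V) = ⟨x, hx⟩ * ⟨y, hy⟩ from rfl, map_mul, hNx, hNy,
        one_mul]⟩
  | inv x _ hx =>
    obtain ⟨hx, hNx⟩ := hx
    exact ⟨inv_mem hx, by
      rw [show (⟨x⁻¹, inv_mem hx⟩ : V) = (⟨x, hx⟩ : V)⁻¹ from rfl, map_inv, hNx, inv_one]⟩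

/-- If `V = [V, T]` then fixed points of `T` lie in `[V, V]`. -/
theorem inf_centralizer_le_commutator {V T : Subgroup X} (hTV : T ≤ normalizer (V : Set X))
    (hV : V ≤ ⁅V, T⁆) (hcop : (Nat.card T).Coprime (Nat.card V)) :
    V ⊓ centralizer (T : Set X) ≤ ⁅V, V⁆ := by
  classical
  haveI := Fintype.ofFinite (T.subgroupOf (normalizer (V : Set X)))
  rintro x ⟨hxV, hxc⟩
  have h := norm_abelianization hTV hV (Abelianization.of ⟨x, hxV⟩)
  have hfix : ∀ t : T.subgroupOf (normalizer (V : Set X)),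
      abAction (le_refl (normalizer (V : Set X))) t (Abelianization.of ⟨x, hxV⟩) =
        Abelianization.of ⟨x, hxV⟩ := fun t => by
    show Abelianization.of (conjHom (le_refl _) t.1 ⟨x, hxV⟩) = _
    congr 1
    apply Subtype.ext
    rw [conjHom_apply, mem_centralizer_iff.mp hxc (t.1 : X) t.2, mul_inv_cancel_right]
  rw [Finset.prod_congr rfl (fun t _ => hfix t), Finset.prod_const, Finset.card_univ,
    ← Nat.card_eq_fintype_card, Nat.card_congr (subgroupOfEquivOfLe hTV).toEquiv] at h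
  have hc : (Nat.card T).Coprime (Nat.card (Abelianization V)) :=
    hcop.coprime_dvd_right (card_quotient_dvd_card (commutator V))
  have h1 : Abelianization.of (⟨x, hxV⟩ : V) = 1 := by
    have h2 := pow_gcd_eq_one.mpr ⟨h, pow_card_eq_one'⟩
    rwa [hc.gcd_eq_one, pow_one] at h2
  rw [← map_subtype_commutator]
  exact ⟨⟨x, hxV⟩, (QuotientGroup.eq_one_iff _).mp h1, rfl⟩

variable {G A : Subgroup X} {r : ℕ}

/-- Generation of `H` by the fixed points of the elements outside `⟨a⟩`, for `H = [H, a]`. -/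
theorem Setup.le_of_cen_le_outside (hS : Setup G A r) {H K : Subgroup X} (hH : H ≤ G)
    (hAH : A ≤ normalizer (H : Set X)) {q : ℕ} [Fact q.Prime] (hq : IsPGroup q H) {a : X}
    (ha : a ∈ A) (hHa : H ≤ ⁅H, zpowers a⁆)
    (h : ∀ b ∈ A, b ∉ zpowers a → H ⊓ centralizer ({b} : Set X) ≤ K) : H ≤ K := by
  have hle : H ⊓ centralizer ({a} : Set X) ≤ ⁅H, H⁆ := by
    rw [← centralizer_zpowers]
    exact inf_centralizer_le_commutator ((zpowers_le.mpr ha).trans hAH) hHa
      (hS.coprime_zpowers hH ha)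
  have h1 : H ≤ (H ⊓ K) ⊔ ⁅H, H⁆ := by
    refine hS.le_of_cen_le hH hAH fun b hb hb1 => ?_
    by_cases hba : b ∈ zpowers a
    · rw [hS.cen_eq ha hba hb1]
      exact hle.trans le_sup_right
    · exact (le_inf inf_le_left (h b hb hba)).trans le_sup_left
  have h2 : (K.subgroupOf H) = ⊤ := by
    refine frattini_nongenerating (eq_top_iff.mpr fun x _ => ?_)
    have hx := h1 x.2
    have hmap : ((K.subgroupOf H) ⊔ commutator H).map H.subtype = (H ⊓ K) ⊔ ⁅H, H⁆ := by
      rw [Subgroup.map_sup, map_subtype_commutator, subgroupOf_map_subtype, inf_comm]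
    rw [← hmap] at hx
    obtain ⟨y, hy, hyx⟩ := hx
    rw [Subtype.ext hyx] at hy
    exact sup_le_sup_left (PGroup.commutator_le_frattini hq) _ hy
  exact subgroupOf_eq_top.mp h2

/-- The module lemma. -/
theorem MinCE.commutator_le_of_conj (hS : MinCE G A r) {V T : Subgroup X} {q : ℕ} [Fact q.Prime]
    (hV : V ≤ G) (hAV : A ≤ normalizer (V : Set X)) (hVq : IsPGroup q V) (hT : T ≤ G)
    (hAT : A ≤ normalizer (T : Set X)) (hTV : T ≤ normalizer (V : Set X))
    (hcop : (Nat.card T).Coprime q) {a b : X} (ha : a ∈ A) (ha1 : a ≠ 1)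
    (hTa : T ≤ centralizer ({a} : Set X)) (hb : b ∈ A) (hba : b ∉ zpowers a) {K : Subgroup X}
    (hK : ∀ t ∈ T, ∀ y ∈ ⁅V, T⁆ ⊓ centralizer ({b} : Set X), t * y * t⁻¹ ∈ K) :
    ⁅V, T⁆ ≤ K := by
  classical
  have hsolA := hS.solvA
  obtain ⟨n, hn⟩ := IsPGroup.iff_card.mp hVq
  have hcopV : (Nat.card T).Coprime (Nat.card V) := by rw [hn]; exact hcop.pow_right n
  haveI : Group.IsNilpotent V := hVq.isNilpotent
  set W := ⁅V, T⁆ with hWdef
  have hWV : W ≤ V := commutator_le_of_le_normalizer hTV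
  have hTW : T ≤ normalizer (W : Set X) := normalizer_commutator_ge_right V T
  have hAW : A ≤ normalizer (W : Set X) := inv_commutator hAV hAT
  have hW : W ≤ ⁅W, T⁆ :=
    (commutator_commutator_eq hTV hcopV (Or.inr inferInstance)).ge
  set N := normalizer (W : Set X)
  set φ := abAction (le_refl N) with hφ
  set T' := T.subgroupOf N
  haveI := Fintype.ofFinite T'
  set s : Set X := {x | ∃ t ∈ T, ∃ y ∈ W ⊓ centralizer ({b} : Set X), x = t * y * t⁻¹}
  set M : Subgroup (Abelianization W) := ((closure s).subgroupOf W).map Abelianization.of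
  have hsW : closure s ≤ W := by
    rw [closure_le]
    rintro _ ⟨t, ht, y, hy, rfl⟩
    exact (mem_normalizer_iff.mp (hTW ht) y).mp hy.1
  have hcard : Nat.card T' = Nat.card T := Nat.card_congr (subgroupOfEquivOfLe hTW).toEquiv
  have hconj : ∀ t ∈ T, ∀ x ∈ closure s, t * x * t⁻¹ ∈ closure s := by
    intro t ht x hx
    induction hx using closure_induction with
    | mem x hx =>
      obtain ⟨t', ht', y, hy, rfl⟩ := hx
      exact subset_closure ⟨t * t', mul_mem ht ht', y, hy, by group⟩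
    | one => simp
    | mul x y _ _ h1 h2 =>
      rw [show t * (x * y) * t⁻¹ = t * x * t⁻¹ * (t * y * t⁻¹) by group]
      exact mul_mem h1 h2
    | inv x _ h1 =>
      rw [show t * x⁻¹ * t⁻¹ = (t * x * t⁻¹)⁻¹ by group]
      exact inv_mem h1
  have hall : ∀ w, w ∈ M := fun w => by
    refine mem_of_avg φ T' M ?_ (b := ⟨b, hAW hb⟩) hS.prime.pos ?_ ?_ ?_
      (norm_abelianization hTW hW) ?_ ?_ w
    · rintro t ht _ ⟨⟨x, hxW⟩, hx, rfl⟩
      exact ⟨_, hconj t.1 ht x hx, rfl⟩
    · refine Subtype.ext ?_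
      show b ^ r = 1
      rw [← hS.orderOf_eq hb (fun h => hba (h ▸ one_mem _))]
      exact pow_orderOf_eq_one b
    · exact fun t ht => (mem_normalizer_iff.mp (hAT hb) t.1).mp ht
    · intro i hi0 hir t ht hc
      refine Subtype.ext ?_
      have hb1 : b ≠ 1 := fun h => hba (h ▸ one_mem _)
      have hbi1 : b ^ i ≠ 1 := by
        refine pow_ne_one_of_lt_orderOf hi0.ne' ?_
        rwa [hS.orderOf_eq hb hb1]
      have hbiz : b ^ i ∈ zpowers b := pow_mem (mem_zpowers b) i
      have hcen : (t : X) ∈ centralizer ({b ^ i} : Set X) :=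
        mem_centralizer_singleton_iff.mpr (congrArg Subtype.val hc).symm
      rw [hS.cen_eq hb hbiz hbi1, mem_centralizer_singleton_iff] at hcen
      exact mem_bot.mp (hS.fix ▸ ⟨hT ht, hS.gen_cen ha ha1 hb hba
        (mem_centralizer_iff.mp (hTa ht) a rfl) hcen.symm⟩)
    · intro w hw
      obtain ⟨x, rfl⟩ := QuotientGroup.mk_surjective w
      have hbW : zpowers b ≤ normalizer (W : Set X) := zpowers_le.mpr (hAW hb)
      have hcomm : ∀ c ∈ zpowers b, ⁅(x : X), c⁆ ∈ ⁅W, W⁆ := by
        intro c hc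
        have hfix : ∀ k : ℤ, φ ((⟨b, hAW hb⟩ : N) ^ k) (Abelianization.of x) = Abelianization.of x := by
          intro k
          induction k using Int.induction_on with
          | zero => rw [zpow_zero, map_one]; rfl
          | succ k ih =>
            rw [zpow_add_one, map_mul_apply]
            show φ _ (φ _ (Abelianization.of x)) = _
            rw [show φ ⟨b, hAW hb⟩ (Abelianization.of x) = Abelianization.of x from hw, ih]
          | pred k ih =>
            have h1 : φ (⟨b, hAW hb⟩ : N)⁻¹ (Abelianization.of x) = Abelianization.of x := by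
              conv_lhs => rw [show Abelianization.of x = φ ⟨b, hAW hb⟩ (Abelianization.of x) from hw.symm]
              rw [← map_mul_apply, inv_mul_cancel, map_one]
              rfl
            rw [zpow_sub_one, map_mul_apply, h1, ih]
        obtain ⟨k, rfl⟩ := mem_zpowers_iff.mp hc
        have h1 := hfix k
        have h2 : x * (conjHom (le_refl N) ((⟨b, hAW hb⟩ : N) ^ k) x)⁻¹ ∈ commutator W := by
          rw [← QuotientGroup.eq_one_iff]
          show Abelianization.of (x * (conjHom (le_refl N) ((⟨b, hAW hb⟩ : N) ^ k) x)⁻¹) = 1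
          rw [map_mul, map_inv,
            show Abelianization.of (conjHom (le_refl N) ((⟨b, hAW hb⟩ : N) ^ k) x) = Abelianization.of x
            from h1, mul_inv_cancel]
        rw [← map_subtype_commutator]
        exact ⟨_, h2, by simp [conjHom_apply, commutatorElement_def, mul_assoc]⟩
      obtain ⟨m, hm, c, hc, hxc⟩ := exists_mul_centralizer_of_commutator_mem hbW
        (hS.coprime_zpowers (hWV.trans hV) hb)
        (Or.inl (isSolvable_of_le (zpowers_le.mpr hb) hsolA))
        (commutator_le_of_le_normalizer le_normalizer)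
        (inv_commutator hbW hbW) x.2 hcomm
      rw [centralizer_zpowers] at hc
      refine ⟨⟨c, hc.1⟩, subset_closure ⟨1, one_mem T, c, hc, by simp⟩, ?_⟩
      rw [← map_subtype_commutator] at hm
      obtain ⟨m', hm', rfl⟩ := hm
      have hx' : x = m' * ⟨c, hc.1⟩ := Subtype.ext hxc
      show Abelianization.of (⟨c, hc.1⟩ : W) = Abelianization.of x
      rw [hx', map_mul, show Abelianization.of m' = 1 from (QuotientGroup.eq_one_iff m').mpr hm',
        one_mul]
    · rw [← Nat.card_eq_fintype_card, hcard]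
      exact (hcopV.coprime_dvd_right (card_dvd_of_le hWV)).coprime_dvd_right
        (card_quotient_dvd_card (commutator W))
  have htop : (closure s).subgroupOf W = ⊤ := by
    refine frattini_nongenerating (eq_top_iff.mpr fun x _ => ?_)
    obtain ⟨y, hy, hyx⟩ := hall (Abelianization.of x)
    have h1 : y⁻¹ * x ∈ commutator W := QuotientGroup.eq.mp hyx
    rw [← mul_inv_cancel_left y x]
    exact mul_mem (mem_sup_left hy)
      (mem_sup_right (PGroup.commutator_le_frattini (hVq.to_le hWV) h1))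
  refine (subgroupOf_eq_top.mp htop).trans ((closure_le _).mpr ?_)
  rintro _ ⟨t, ht, y, hy, rfl⟩
  exact hK t ht y hy

/-- An element of some `C(b)` commuting with `T` centralizes `[V, T]`. -/
theorem MinCE.mem_centralizer_commutator (hS : MinCE G A r) {V T : Subgroup X} {q : ℕ}
    [Fact q.Prime] (hV : V ≤ G) (hAV : A ≤ normalizer (V : Set X)) (hVq : IsPGroup q V)
    (hT : T ≤ G) (hAT : A ≤ normalizer (T : Set X)) (hTV : T ≤ normalizer (V : Set X))
    (hcop : (Nat.card T).Coprime q) {a b : X} (ha : a ∈ A) (ha1 : a ≠ 1)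
    (hTa : T ≤ centralizer ({a} : Set X)) (hb : b ∈ A) (hba : b ∉ zpowers a) {x : X}
    (hxT : x ∈ centralizer (T : Set X))
    (hx : ∀ y ∈ ⁅V, T⁆ ⊓ centralizer ({b} : Set X), y * x = x * y) :
    x ∈ centralizer ((⁅V, T⁆ : Subgroup X) : Set X) := by
  have h := hS.commutator_le_of_conj hV hAV hVq hT hAT hTV hcop ha ha1 hTa hb hba
    (K := centralizer ({x} : Set X)) fun t ht y hy => by
      have h1 := mem_centralizer_iff.mp hxT t ht
      have h2 := mem_centralizer_iff.mp hxT t⁻¹ (inv_mem ht)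
      rw [mem_centralizer_singleton_iff]
      calc t * y * t⁻¹ * x = t * y * (t⁻¹ * x) := by group
        _ = t * (y * x) * t⁻¹ := by rw [h2]; group
        _ = t * x * (y * t⁻¹) := by rw [hx y hy]; group
        _ = x * (t * y * t⁻¹) := by rw [h1]; group
  rw [mem_centralizer_iff]
  exact fun y hy => mem_centralizer_singleton_iff.mp (h hy)

/-- An element of `C_G(b)` commuting with `T` centralizes `[V, T]`. -/
theorem MinCE.mem_centralizer_commutator' (hS : MinCE G A r) {V T : Subgroup X} {q : ℕ}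
    [Fact q.Prime] (hV : V ≤ G) (hAV : A ≤ normalizer (V : Set X)) (hVq : IsPGroup q V)
    (hT : T ≤ G) (hAT : A ≤ normalizer (T : Set X)) (hTV : T ≤ normalizer (V : Set X))
    (hcop : (Nat.card T).Coprime q) {a b : X} (ha : a ∈ A) (ha1 : a ≠ 1)
    (hTa : T ≤ centralizer ({a} : Set X)) (hb : b ∈ A) (hba : b ∉ zpowers a) {x : X}
    (hxT : x ∈ centralizer (T : Set X)) (hxG : x ∈ G) (hxb : x ∈ centralizer ({b} : Set X)) :
    x ∈ centralizer ((⁅V, T⁆ : Subgroup X) : Set X) :=
  hS.mem_centralizer_commutator hV hAV hVq hT hAT hTV hcop ha ha1 hTa hb hba hxT fun _ hy =>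
    hS.commute_of_cen hb (fun h => hba (h ▸ one_mem _))
      (hV (commutator_le_of_le_normalizer hTV hy.1)) hxG
      (mem_centralizer_iff.mp hy.2 b rfl) (mem_centralizer_iff.mp hxb b rfl)

/-- If the fixed points of `b` commute with `T` then so does `V`. -/
theorem MinCE.commutator_eq_bot (hS : MinCE G A r) {V T : Subgroup X} {q : ℕ} [Fact q.Prime]
    (hV : V ≤ G) (hAV : A ≤ normalizer (V : Set X)) (hVq : IsPGroup q V) (hT : T ≤ G)
    (hAT : A ≤ normalizer (T : Set X)) (hTV : T ≤ normalizer (V : Set X))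
    (hcop : (Nat.card T).Coprime q) {a b : X} (ha : a ∈ A) (ha1 : a ≠ 1)
    (hTa : T ≤ centralizer ({a} : Set X)) (hb : b ∈ A) (hba : b ∉ zpowers a)
    (h : V ⊓ centralizer ({b} : Set X) ≤ centralizer (T : Set X)) : ⁅V, T⁆ = ⊥ := by
  have h1 : ⁅V, T⁆ ≤ centralizer (T : Set X) :=
    hS.commutator_le_of_conj hV hAV hVq hT hAT hTV hcop ha ha1 hTa hb hba fun t ht y hy => by
      have h1 := h ⟨commutator_le_of_le_normalizer hTV hy.1, hy.2⟩
      rwa [mem_centralizer_iff.mp h1 t ht, mul_inv_cancel_right]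
  obtain ⟨n, hn⟩ := IsPGroup.iff_card.mp hVq
  haveI : Group.IsNilpotent V := hVq.isNilpotent
  exact commutator_eq_bot_of_commutator_commutator_eq_bot hTV (by rw [hn]; exact hcop.pow_right n)
    (Or.inr inferInstance) (commutator_eq_bot_iff_le_centralizer.mpr h1)

end Cfsg.Lib.Coprime.Ward
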