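import Cfsg.Agent.Lib.Local.GlaubermanZJ
import Cfsg.Agent.Lib.Local.PStableAbelian
import Cfsg.Agent.Lib.Core.Layer
import Cfsg.Agent.Lib.Core.Fitting

/-!
# Groups of order `p ^ i * q ^ j`: the Fitting cores, and `ZJ` for an abelian Sylow `q`-subgroup
-/

set_option autoImplicit false
set_option linter.style.haveILetI false

namespace Cfsg.Lib.Coprime.Ward

open Subgroup Cfsg
open scoped commutatorElement IsMulCommutative

universe u

variable {G : Type u} [Group G] [Finite G] {p q : ℕ} [hp : Fact p.Prime] [hq : Fact q.Prime]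

omit hp hq in
/-- In a solvable group with primes `p`, `q` only, `C(O_p) ∩ C(O_q) ≤ O_p O_q`. -/
theorem centralizer_cores_le [Group.IsSolvable G]
    (hpq : ∀ t : ℕ, t.Prime → t ∣ Nat.card G → t = p ∨ t = q) :
    centralizer (pCore p G : Set G) ⊓ centralizer (pCore q G : Set G) ≤ pCore p G ⊔ pCore q G := by
  have hF : fittingSubgroup G ≤ pCore p G ⊔ pCore q G := by
    rw [Core.fittingSubgroup_eq_iSup_pCore]
    refine iSup_le fun t => ?_
    haveI : Fact (t : ℕ).Prime := ⟨t.2⟩
    by_cases h : pCore (t : ℕ) G = ⊥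
    · rw [h]; exact bot_le
    obtain ⟨k, hk⟩ := IsPGroup.iff_card.mp (Core.pCore_isPGroup (t : ℕ) G)
    have hk0 : k ≠ 0 := fun h0 => h (eq_bot_of_card_eq _ (by rw [hk, h0, pow_zero]))
    rcases hpq t t.2 (((dvd_pow_self (t : ℕ) hk0).trans hk.symm.dvd).trans (card_subgroup_dvd_card _))
      with ht | ht <;> rw [ht]
    exacts [le_sup_left, le_sup_right]
  have hcen : ∀ x ∈ centralizer (pCore p G : Set G) ⊓ centralizer (pCore q G : Set G),
      pCore p G ⊔ pCore q G ≤ centralizer ({x} : Set G) := by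
    intro x hx
    refine sup_le (fun y hy => ?_) (fun y hy => ?_) <;> rw [mem_centralizer_singleton_iff]
    · exact mem_centralizer_iff.mp hx.1 y hy
    · exact mem_centralizer_iff.mp hx.2 y hy
  intro x hx
  refine hF (Core.centralizer_fitting_le_of_isSolvable (mem_centralizer_iff.mpr fun y hy => ?_))
  exact mem_centralizer_singleton_iff.mp (hcen x hx (hF hy))

/-- `Z(J(P))` is normal in a `{p, q}`-group with `C(O_p) ≤ O_p`, `p` odd, with an abelian Sylow
`q`-subgroup. -/
theorem centerThompsonA_normal_pair [Group.IsSolvable G]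
    (hpq : ∀ t : ℕ, t.Prime → t ∣ Nat.card G → t = p ∨ t = q) (hne : p ≠ q) (h2 : p ≠ 2)
    (hc : centralizer (pCore p G : Set G) ≤ pCore p G) (S : Sylow q G)
    (hS : IsMulCommutative (S : Subgroup G)) (P : Sylow p G) :
    (centerThompsonAOf (P : Subgroup G)).Normal := by
  set H := pCore p G with hH
  set f := QuotientGroup.mk' H
  have hf : Function.Surjective f := QuotientGroup.mk'_surjective H
  have hpq' : ∀ t : ℕ, t.Prime → t ∣ Nat.card (G ⧸ H) → t = p ∨ t = q := fun t ht hd =>
    hpq t ht (hd.trans (card_quotient_dvd_card H))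
  set S' : Sylow q (G ⧸ H) := S.mapSurjective hf
  have hS' : IsMulCommutative (S' : Subgroup (G ⧸ H)) := by
    rw [Sylow.coe_mapSurjective]
    infer_instance
  have hbot : pCore p (G ⧸ H) = ⊥ := Core.pCore_quotient_pCore_eq_bot
  have hle : (S' : Subgroup (G ⧸ H)) ≤ pCore q (G ⧸ H) := by
    intro x hx
    have h1 := centralizer_cores_le hpq' (x := x)
    rw [hbot, bot_sup_eq] at h1
    refine h1 ⟨mem_centralizer_iff.mpr fun y hy => ?_, mem_centralizer_iff.mpr fun y hy => ?_⟩
    · rw [SetLike.mem_coe, mem_bot] at hy; rw [hy, one_mul, mul_one]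
    · exact congrArg Subtype.val (mul_comm' (⟨y, Core.pCore_le_sylow S' hy⟩ : (S' : Subgroup (G ⧸ H)))
        ⟨x, hx⟩)
  have heq : pCore q (G ⧸ H) = (S' : Subgroup (G ⧸ H)) := le_antisymm (Core.pCore_le_sylow S') hle
  set M := (pCore q (G ⧸ H)).comap f with hM
  haveI : M.Normal := inferInstance
  refine Local.GlaubermanZJ.centerThompsonA_normal h2 hc (fun V _ hV => ?_) P
  refine Local.isPStableOn_of_abelian_quotient h2 (H := H) (M := M) (Core.pCore_isPGroup p G) ?_
    (n := Nat.card (pCore q (G ⧸ H))) ?_ ?_ ?_ V hV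
  · rw [commutator_le]
    intro x hx y hy
    rw [← QuotientGroup.ker_mk' H, MonoidHom.mem_ker, map_commutatorElement,
      commutatorElement_eq_one_iff_mul_comm]
    exact congrArg Subtype.val (mul_comm' (⟨f x, hle.antisymm (Core.pCore_le_sylow S') ▸ hx⟩ :
      (S' : Subgroup (G ⧸ H))) ⟨f y, hle.antisymm (Core.pCore_le_sylow S') ▸ hy⟩)
  · obtain ⟨k, hk⟩ := IsPGroup.iff_card.mp (Core.pCore_isPGroup q (G ⧸ H))
    rw [hk]
    exact ((Nat.coprime_primes hq.out hp.out).mpr hne.symm).pow_left k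
  · intro x hx
    refine (QuotientGroup.eq_one_iff _).mp ?_
    show f (x ^ Nat.card (pCore q (G ⧸ H))) = 1
    rw [map_pow]
    exact congrArg Subtype.val (pow_card_eq_one' (x := (⟨f x, hx⟩ : pCore q (G ⧸ H))))
  · refine IsPGroup.of_card (Nat.eq_prime_pow_of_unique_prime_dvd Nat.card_pos.ne' fun {d} hd hdd => ?_)
    have h1 : d ∣ (pCore q (G ⧸ H)).index := by
      rwa [← index_comap_of_surjective _ hf]
    rcases hpq' d hd (h1.trans (index_dvd_card _)) with rfl | rfl
    · rfl
    · rw [heq] at h1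
      exact absurd h1 S'.not_dvd_index

end Cfsg.Lib.Coprime.Ward
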