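import Cfsg.Agent.Lib.Coprime.Ward.Sylow
import Cfsg.Agent.Lib.Coprime.Ward.Stable
import Cfsg.Agent.Lib.Local.GlaubermanComplement
import Cfsg.Agent.Lib.Local.Basic
import Cfsg.Agent.Lib.Solv.Hall

/-!
# Two invariant Sylow subgroups permute

Maximal invariant `{p, q}`-subgroups, for two invariant Sylow subgroups that lie in no common
invariant `{p, q}`-subgroup, lead to a contradiction.
-/

set_option autoImplicit false
set_option linter.style.haveILetI false

namespace Cfsg.Lib.Coprime.Ward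

open Subgroup Cfsg
open scoped commutatorElement Pointwise IsMulCommutative

universe u

variable {X : Type u} [Group X]

/-- An invariant `{p, q}`-subgroup of `G`. -/
def PairSub (G A : Subgroup X) (p q : ℕ) (H : Subgroup X) : Prop :=
  H ≤ G ∧ A ≤ normalizer (H : Set X) ∧ ∀ t : ℕ, t.Prime → t ∣ Nat.card H → t = p ∨ t = q

theorem PairSub.symm {G A H : Subgroup X} {p q : ℕ} (h : PairSub G A p q H) : PairSub G A q p H :=
  ⟨h.1, h.2.1, fun t ht hd => (h.2.2 t ht hd).symm⟩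

/-- A maximal one. -/
def MaxPair (G A : Subgroup X) (p q : ℕ) (M : Subgroup X) : Prop :=
  PairSub G A p q M ∧ ∀ H, PairSub G A p q H → M ≤ H → H = M

theorem MaxPair.symm {G A M : Subgroup X} {p q : ℕ} (h : MaxPair G A p q M) : MaxPair G A q p M :=
  ⟨h.1.symm, fun H hH => h.2 H hH.symm⟩

/-- Two Sylow subgroups in no common invariant `{p, q}`-subgroup. -/
structure Ctx (G A : Subgroup X) (r p q : ℕ) (P Q : Subgroup X) : Prop where
  min : MinCE G A r
  hp : p.Prime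
  hq : q.Prime
  ne : p ≠ q
  dvd : p ∣ Nat.card G
  dvd' : q ∣ Nat.card G
  hP : InvSyl G A p P
  hQ : InvSyl G A q Q
  nolink : ¬ ∃ H, PairSub G A p q H ∧ P ≤ H ∧ Q ≤ H

theorem Ctx.symm {G A P Q : Subgroup X} {r p q : ℕ} (c : Ctx G A r p q P Q) :
    Ctx G A r q p Q P :=
  ⟨c.min, c.hq, c.hp, c.ne.symm, c.dvd', c.dvd, c.hQ, c.hP,
    fun ⟨H, hH, h1, h2⟩ => c.nolink ⟨H, hH.symm, h2, h1⟩⟩

variable [Finite X] {G A P Q M K N H : Subgroup X} {r p q : ℕ}

omit [Finite X] in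
theorem le_centralizer_of_inf_eq_bot {U V : Subgroup X} (h1 : U ≤ normalizer (V : Set X))
    (h2 : V ≤ normalizer (U : Set X)) (h : U ⊓ V = ⊥) : U ≤ centralizer (V : Set X) := by
  intro u hu
  refine mem_centralizer_iff.mpr fun v hv => commutatorElement_eq_one_iff_mul_comm.mp ?_
  rw [← mem_bot, ← h]
  refine ⟨?_, ?_⟩
  · rw [commutatorElement_def]
    exact U.mul_mem ((mem_normalizer_iff.mp (h2 hv) u).mp hu) (U.inv_mem hu)
  · rw [commutatorElement_def, mul_assoc v, mul_assoc v]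
    exact V.mul_mem hv ((mem_normalizer_iff.mp (h1 hu) v⁻¹).mp (V.inv_mem hv))

theorem Setup.cen_comm (hS : Setup G A r) (hH : H ≤ G) {a : X} (ha : a ∈ A) (ha1 : a ≠ 1) :
    IsMulCommutative ↥(H ⊓ centralizer ({a} : Set X)) := by
  refine ⟨⟨fun x y => Subtype.ext ?_⟩⟩
  obtain ⟨x, hx1, hx2⟩ := x
  obtain ⟨y, hy1, hy2⟩ := y
  exact hS.commute_of_cen ha ha1 (hH hx1) (hH hy1) (mem_centralizer_iff.mp hx2 a rfl)
    (mem_centralizer_iff.mp hy2 a rfl)

theorem inf_zenter_ne_bot {S : Subgroup X} [Fact p.Prime] (hS : IsPGroup p S) (hNS : N ≤ S)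
    (hSN : S ≤ normalizer (N : Set X)) (hne : N ≠ ⊥) :
    N ⊓ (S ⊓ centralizer (S : Set X)) ≠ ⊥ := by
  haveI : (N.subgroupOf S).Normal := (normal_subgroupOf_iff_le_normalizer hNS).mpr hSN
  intro h
  refine PGroup.inf_center_ne_bot hS (N := N.subgroupOf S)
    (fun h0 => hne (by rw [← map_subgroupOf_eq_of_le hNS, h0, Subgroup.map_bot])) ?_
  rw [eq_bot_iff]
  rintro x ⟨hx1, hx2⟩
  refine mem_bot.mpr (Subtype.ext (mem_bot.mp (h ▸ ?_ : (x : X) ∈ (⊥ : Subgroup X))))
  exact ⟨hx1, x.2, fun y hy => congrArg Subtype.val (Subgroup.mem_center_iff.mp hx2 ⟨y, hy⟩)⟩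

theorem Setup.not_mem_symm (hS : Setup G A r) {a b : X} (ha : a ∈ A) (hb : b ∈ A) (hb1 : b ≠ 1)
    (h : a ∉ zpowers b) : b ∉ zpowers a := fun hba => by
  have ha1 : a ≠ 1 := fun e => h (e ▸ one_mem _)
  have he : zpowers b = zpowers a := eq_of_le_of_card_ge (zpowers_le.mpr hba)
    (by rw [Nat.card_zpowers, Nat.card_zpowers, hS.orderOf_eq ha ha1, hS.orderOf_eq hb hb1])
  exact h (he ▸ mem_zpowers a)

theorem MinCE.commutator_zpowers_le (hS : MinCE G A r) [Fact p.Prime] (hH : H ≤ G)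
    (hAH : A ≤ normalizer (H : Set X)) (hHp : IsPGroup p H) {a : X} (ha : a ∈ A)
    (h : ∀ b ∈ A, b ∉ zpowers a → H ⊓ centralizer ({b} : Set X) ≤ K) : ⁅H, zpowers a⁆ ≤ K := by
  have haH : zpowers a ≤ normalizer (H : Set X) := zpowers_le.mpr (hAH ha)
  have hle : ⁅H, zpowers a⁆ ≤ H := commutator_le_of_le_normalizer haH
  exact hS.le_of_cen_le_outside (hle.trans hH) (inv_commutator hAH (hS.inv_zpowers ha))
    (hHp.to_le hle) ha (commutator_commutator_eq haH (hS.coprime_zpowers hH ha)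
      (Or.inl (isSolvable_of_le (zpowers_le.mpr ha) hS.solvA))).ge
    fun b hb hba => (inf_le_inf_right _ hle).trans (h b hb hba)

/-- An abelian Sylow subgroup does not act faithfully on an invariant `q`-subgroup. -/
theorem MinCE.no_faithful (hS : MinCE G A r) [Fact p.Prime] [Fact q.Prime] (hne : p ≠ q)
    (hP : InvSyl G A p P) (hd : p ∣ Nat.card G) (hPc : IsMulCommutative P) {B : Subgroup X}
    (hB : B ≤ G) (hAB : A ≤ normalizer (B : Set X)) (hBq : IsPGroup q B)
    (hPB : P ≤ normalizer (B : Set X)) (hfaith : P ⊓ centralizer (B : Set X) = ⊥) : False := by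
  have hpr : p.Prime := Fact.out
  set N := G ⊓ normalizer (P : Set X) with hN
  have hAN : A ≤ normalizer (N : Set X) := inv_inf hS.norm (inv_normalizer hP.inv)
  obtain ⟨w, hw, W, hW, hmove⟩ : ∃ w, w.Prime ∧ ∃ W, InvSyl G A w W ∧
      ¬ W ⊓ N ≤ centralizer (P : Set X) := by
    by_contra hc
    push Not at hc
    refine hS.normalizer_not_le_centralizer hP hd (relIndex_eq_one.mp ?_ : N ≤ _)
    by_contra hne1
    obtain ⟨w, hw, hwd⟩ := Nat.exists_prime_and_dvd hne1
    haveI := Fact.mk hw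
    obtain ⟨W, hW⟩ := hS.exists_invSyl w
    exact hW.inf hS inf_le_left hAN (hwd.trans (relIndex_dvd_of_le_left N (hc w hw W hW)))
  haveI := Fact.mk hw
  have hwp : w ≠ p := by
    rintro rfl
    refine hmove ((inf_le_left.trans (hP.max W hW.le hW.pg hW.inv)).trans ?_)
    exact le_centralizer P
  have hWG : W ⊓ N ≤ G := inf_le_left.trans hW.le
  have hAW : A ≤ normalizer ((W ⊓ N : Subgroup X) : Set X) := inv_inf hW.inv hAN
  obtain ⟨a, ha, ha1, hT⟩ := hS.exists_moving_line hWG hAW hmove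
  set T := W ⊓ N ⊓ centralizer ({a} : Set X) with hTdef
  have hTG : T ≤ G := inf_le_left.trans hWG
  have hAT : A ≤ normalizer (T : Set X) := hS.inv_cen hAW ha
  have hTP : T ≤ normalizer (P : Set X) := (inf_le_left.trans inf_le_right).trans inf_le_right
  have hTp : (Nat.card T).Coprime p :=
    coprime_of_isPGroup (hW.pg.to_le (inf_le_left.trans inf_le_left)) hwp hpr
  obtain ⟨b, hb, hba⟩ := hS.exists_indep ha
  have hb1 : b ≠ 1 := fun e => hba (e ▸ one_mem _)
  obtain ⟨c, hc, hca, hcb, hc1⟩ := hS.exists_third ha ha1 hb hba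
  have hac : a ∉ zpowers c := hS.not_mem_symm hc ha ha1 hca
  have hbc : b ∉ zpowers c := hS.not_mem_symm hc hb hb1 hcb
  have hPb : ¬ P ⊓ centralizer ({b} : Set X) ≤ centralizer (T : Set X) := fun h =>
    hT (le_centralizer_iff.mp (commutator_eq_bot_iff_le_centralizer.mp
      (hS.commutator_eq_bot hP.le hP.inv hP.pg hTG hAT hTP hTp ha ha1 inf_le_right hb hba h)))
  set S := P ⊓ centralizer ({c} : Set X) with hSdef
  have hSG : S ≤ G := inf_le_left.trans hP.le
  have hAS : A ≤ normalizer (S : Set X) := hS.inv_cen hP.inv hc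
  have hSB : S ≤ normalizer (B : Set X) := inf_le_left.trans hPB
  have hSq : (Nat.card S).Coprime q :=
    coprime_of_isPGroup (hP.pg.to_le inf_le_left) hne Fact.out
  have hBS : ⁅B, S⁆ ≤ G := (commutator_le_of_le_normalizer hSB).trans hB
  set E := ⁅B, S⁆ ⊓ centralizer ({a} : Set X) with hEdef
  set D := P ⊓ centralizer (E : Set X) with hDdef
  have hAE : A ≤ normalizer (E : Set X) := hS.inv_cen (inv_commutator hAB hAS) ha
  have hTE : T ≤ centralizer (E : Set X) := fun t ht =>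
    mem_centralizer_iff.mpr fun e he => hS.commute_of_cen ha ha1 (hBS he.1) (hTG ht)
      (mem_centralizer_iff.mp he.2 a rfl) (mem_centralizer_iff.mp ht.2 a rfl)
  have hTD : T ≤ normalizer (D : Set X) := (le_inf hTP
    ((hTE.trans (centralizer_le_normalizer _)).trans
      (Local.normalizer_le_normalizer_centralizer E))).trans inf_normalizer_le_normalizer_inf
  have hbD : P ⊓ centralizer ({b} : Set X) ≤ D := fun x hx =>
    ⟨hx.1, centralizer_le (inf_le_left : E ≤ ⁅B, S⁆) (hS.mem_centralizer_commutator' hB hAB hBq hSG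
      hAS hSB hSq hc hc1 inf_le_right hb hbc
      (mem_centralizer_iff.mpr fun s hs => congrArg Subtype.val
        (mul_comm' (⟨s, hs.1⟩ : P) ⟨x, hx.1⟩)) (hP.le hx.1) hx.2)⟩
  have hDc : D ⊓ centralizer ({c} : Set X) = ⊥ := by
    rw [eq_bot_iff]
    rintro y ⟨⟨hyP, hyE⟩, hyc⟩
    have hyS : y ∈ centralizer (S : Set X) := mem_centralizer_iff.mpr fun s hs =>
      congrArg Subtype.val (mul_comm' (⟨s, hs.1⟩ : P) ⟨y, hyP⟩)
    have h1 : y ∈ centralizer ((⁅B, S⁆ : Subgroup X) : Set X) :=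
      hS.mem_centralizer_commutator hB hAB hBq hSG hAS hSB hSq hc hc1 inf_le_right ha hac hyS
        fun z hz => mem_centralizer_iff.mp hyE z hz
    rw [← hfaith]
    refine ⟨hyP, mem_centralizer_iff.mpr fun z hz => ?_⟩
    obtain ⟨n, hn⟩ := IsPGroup.iff_card.mp hBq
    haveI : Group.IsNilpotent B := hBq.isNilpotent
    obtain ⟨m, hm, d, hd', rfl⟩ := le_commutator_sup_centralizer hSB
      (by rw [hn]; exact hSq.pow_right n) (Or.inr inferInstance) hz
    have e1 : m * y = y * m := mem_centralizer_iff.mp h1 m hm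
    have e2 : d * y = y * d := (mem_centralizer_iff.mp hd'.2 y ⟨hyP, hyc⟩).symm
    exact (Commute.mul_left e1 e2 : Commute (m * d) y).eq
  have hD := hS.commutator_eq_bot (inf_le_left.trans hP.le) (inv_centralizer_inf hP.inv hAE)
    (hP.pg.to_le inf_le_left) hTG hAT hTD hTp ha ha1 inf_le_right hc hca (hDc.trans_le bot_le)
  exact hPb (hbD.trans (commutator_eq_bot_iff_le_centralizer.mp hD))

namespace Ctx

variable (c : Ctx G A r p q P Q)

include c

theorem lt (h : PairSub G A p q H) : H < G := lt_of_le_of_ne h.1 fun e =>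
  c.nolink ⟨H, h, e ▸ c.hP.le, e ▸ c.hQ.le⟩

theorem le_of_parts (h : PairSub G A p q H) (h1 : P ⊓ H ≤ M) (h2 : Q ⊓ H ≤ M) : H ≤ M := by
  haveI := Fact.mk c.hp
  haveI := Fact.mk c.hq
  refine relIndex_eq_one.mp ?_
  by_contra hne
  obtain ⟨t, ht, htd⟩ := Nat.exists_prime_and_dvd hne
  rcases h.2.2 t ht (htd.trans (relIndex_dvd_card M H)) with rfl | rfl
  · exact c.hP.inf c.min h.1 h.2.1 (htd.trans (relIndex_dvd_of_le_left H h1))
  · exact c.hQ.inf c.min h.1 h.2.1 (htd.trans (relIndex_dvd_of_le_left H h2))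

theorem exists_pair (hKG : K < G) (hAK : A ≤ normalizer (K : Set X)) :
    ∃ H, PairSub G A p q H ∧ P ⊓ K ≤ H ∧ Q ⊓ K ≤ H := by
  haveI := Fact.mk c.hp
  haveI := Fact.mk c.hq
  haveI := c.min.solv K hKG hAK
  obtain ⟨H0, hH0⟩ := Solv.exists_isPiHall ({p, q} : Set ℕ) K
  have hS := c.min
  obtain ⟨g, hg, hinv⟩ := exists_conj_invariant hAK (hS.coprime hKG.le) (Or.inl hS.solvA)
    (H0.map K.subtype) fun a ha => by
      have hle : (H0.map K.subtype).map (MulAut.conj a).toMonoidHom ≤ K :=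
        (map_mono (map_subtype_le _)).trans (map_conj_eq_self (hAK ha)).le
      have hcard : Nat.card (((H0.map K.subtype).map (MulAut.conj a).toMonoidHom).subgroupOf K) =
          Nat.card H0 := by
        rw [Nat.card_congr (subgroupOfEquivOfLe hle).toEquiv, card_map_conj,
          Subgroup.card_map_of_injective K.subtype_injective]
      obtain ⟨g, hg⟩ := Solv.hall_conj H0.card_mul_index.symm (Solv.coprime_of_isPiHall hH0) rfl hcard
      refine ⟨g, g.2, ?_⟩
      rw [← map_subgroupOf_eq_of_le hle, ← hg]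
      change (H0.map (MulAut.conj g).toMonoidHom).map K.subtype = _
      rw [Subgroup.map_map, Subgroup.map_map]
      rfl
  set H := (H0.map K.subtype).map (MulAut.conj g).toMonoidHom with hH
  have hHK : H ≤ K := (map_mono (map_subtype_le _)).trans (map_conj_eq_self (le_normalizer hg)).le
  have hcard : Nat.card H = Nat.card H0 := by
    rw [hH, card_map_conj, Subgroup.card_map_of_injective K.subtype_injective]
  have hidx : H.relIndex K = H0.index := by
    have h1 := Core.card_mul_relIndex hHK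
    rw [hcard, ← H0.card_mul_index] at h1
    exact Nat.eq_of_mul_eq_mul_left Nat.card_pos h1
  have hpair : PairSub G A p q H := ⟨hHK.trans hKG.le, hinv, fun t ht hd => by
    simpa using hH0.1 t ht (hcard ▸ hd)⟩
  have key : ∀ {s : ℕ} {S : Subgroup X}, s.Prime → s ∈ ({p, q} : Set ℕ) → InvSyl G A s S →
      S ⊓ K ≤ H := by
    intro s S hs hspq hS'
    haveI := Fact.mk hs
    refine le_trans (relIndex_eq_one.mp ?_ : S ⊓ K ≤ S ⊓ H) inf_le_right
    have h1 : ¬ s ∣ (S ⊓ H).relIndex K := by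
      rw [← relIndex_mul_relIndex _ _ _ (inf_le_right : S ⊓ H ≤ H) hHK, hidx]
      exact hs.not_dvd_mul (hS'.inf hS hpair.1 hpair.2.1) (hH0.2 s hs hspq)
    obtain ⟨k, hk⟩ := IsPGroup.iff_card.mp (hS'.pg.to_le (inf_le_left : S ⊓ K ≤ S))
    obtain ⟨j, -, hj⟩ := (Nat.dvd_prime_pow hs).mp (hk ▸ relIndex_dvd_card (S ⊓ H) (S ⊓ K))
    rcases Nat.eq_zero_or_pos j with rfl | hj0
    · rw [hj, pow_zero]
    refine absurd (((dvd_pow_self s hj0.ne').trans hj.symm.dvd).trans ?_) h1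
    rw [← relIndex_mul_relIndex _ _ _ (inf_le_inf_left S hHK) (inf_le_right : S ⊓ K ≤ K)]
    exact dvd_mul_right _ _
  exact ⟨H, hpair, key c.hp (by simp) c.hP, key c.hq (by simp) c.hQ⟩

theorem pair_P : PairSub G A p q P := ⟨c.hP.le, c.hP.inv, fun t ht hd => Or.inl (by
  haveI := Fact.mk c.hp
  obtain ⟨k, hk⟩ := c.hP.pg.exists_card_eq
  exact (Nat.prime_dvd_prime_iff_eq ht c.hp).mp (ht.dvd_of_dvd_pow (hk ▸ hd)))⟩

theorem exists_max_ge (h : PairSub G A p q H) : ∃ M, MaxPair G A p q M ∧ H ≤ M := by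
  obtain ⟨M, hle, hM, hmax⟩ := (Set.toFinite {M | PairSub G A p q M}).exists_le_maximal h
  exact ⟨M, ⟨hM, fun H' hH' hle' => le_antisymm (hmax hH' hle') hle'⟩, hle⟩

theorem exists_max_centralizer (hNG : N ≤ G) (hAN : A ≤ normalizer (N : Set X)) (hne : N ≠ ⊥)
    (hNG' : N ≠ G) : ∃ M, MaxPair G A p q M ∧ P ⊓ centralizer (N : Set X) ≤ M ∧
      Q ⊓ centralizer (N : Set X) ≤ M := by
  have hlt : G ⊓ centralizer (N : Set X) < G := lt_of_le_of_ne inf_le_left fun e => by
    rcases c.min.nonormal N hNG hAN (e.ge.trans (inf_le_right.trans (centralizer_le_normalizer _)))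
      with h | h
    exacts [hne h, hNG' h]
  obtain ⟨H, hH, h1, h2⟩ := c.exists_pair hlt (inv_centralizer_inf c.min.norm hAN)
  obtain ⟨M, hM, hle⟩ := c.exists_max_ge hH
  exact ⟨M, hM, (le_inf inf_le_left (inf_le_inf_right _ c.hP.le)).trans (h1.trans hle),
    (le_inf inf_le_left (inf_le_inf_right _ c.hQ.le)).trans (h2.trans hle)⟩

/-- A maximal pair subgroup contains the `{p, q}`-part of the normalizer of each of its nontrivial
normal subgroups. -/
theorem parts_normalizer_le (hM : MaxPair G A p q M) (hAN : A ≤ normalizer (N : Set X))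
    (hNM : N ≤ M) (hne : N ≠ ⊥) (hMN : M ≤ normalizer (N : Set X)) :
    P ⊓ normalizer (N : Set X) ≤ M ∧ Q ⊓ normalizer (N : Set X) ≤ M := by
  have hlt : G ⊓ normalizer (N : Set X) < G := lt_of_le_of_ne inf_le_left fun e => by
    rcases c.min.nonormal N (hNM.trans hM.1.1) hAN (e.ge.trans inf_le_right) with h | h
    exacts [hne h, (c.lt hM.1).not_ge (h ▸ hNM)]
  obtain ⟨H, hH, h1, h2⟩ := c.exists_pair hlt (inv_inf c.min.norm (inv_normalizer hAN))
  have hsub : ∀ S : Subgroup X, S ⊓ M ≤ S ⊓ (G ⊓ normalizer (N : Set X)) := fun S =>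
    inf_le_inf_left S (le_inf hM.1.1 hMN)
  obtain rfl : H = M := hM.2 H hH (c.le_of_parts hM.1 ((hsub P).trans h1) ((hsub Q).trans h2))
  exact ⟨(le_inf inf_le_left (inf_le_inf_right _ c.hP.le)).trans h1,
    (le_inf inf_le_left (inf_le_inf_right _ c.hQ.le)).trans h2⟩

theorem core_le (h : PairSub G A p q M) : pCoreOf p M ≤ P := by
  haveI := Fact.mk c.hp
  exact c.hP.max _ ((Local.pCoreOf_le M).trans h.1) (Local.pCoreOf_isPGroup M)
    (h.2.1.trans (Local.normalizer_le_normalizer_pCoreOf M))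

theorem inf_eq_bot : P ⊓ Q = ⊥ := by
  haveI := Fact.mk c.hp
  haveI := Fact.mk c.hq
  exact eq_bot_of_isPGroup_two (c.hQ.pg.to_le inf_le_right) (c.hP.pg.to_le inf_le_left) c.ne.symm

/-- Elements of `M` centralizing both cores lie in their product. -/
theorem cen_cores (h : PairSub G A p q M) {x : X} (hx : x ∈ M)
    (h1 : x ∈ centralizer (pCoreOf p M : Set X)) (h2 : x ∈ centralizer (pCoreOf q M : Set X)) :
    x ∈ pCoreOf p M ⊔ pCoreOf q M := by
  haveI := c.min.solv M (c.lt h) h.2.1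
  haveI := Fact.mk c.hp
  haveI := Fact.mk c.hq
  have := centralizer_cores_le h.2.2 (x := (⟨x, hx⟩ : M))
    ⟨fun y hy => Subtype.ext (h1 _ ⟨y, hy, rfl⟩), fun y hy => Subtype.ext (h2 _ ⟨y, hy, rfl⟩)⟩
  have h3 := mem_map_of_mem M.subtype this
  rw [Subgroup.map_sup] at h3
  exact h3

/-- A `p`-element of `O_p O_q` lies in `O_p`. -/
theorem mem_core (h : PairSub G A p q M) {x : X} (hxP : x ∈ P)
    (hx : x ∈ pCoreOf p M ⊔ pCoreOf q M) : x ∈ pCoreOf p M := by
  have hnorm : pCoreOf q M ≤ normalizer (pCoreOf p M : Set X) :=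
    (Local.pCoreOf_le M).trans (Local.le_normalizer_pCoreOf M)
  obtain ⟨u, hu, v, hv, rfl⟩ := exists_mul_of_mem_sup hnorm hx
  have hv' : v ∈ P ⊓ Q := ⟨by simpa using mul_mem (inv_mem (c.core_le h hu)) hxP,
    c.symm.core_le h.symm hv⟩
  rw [c.inf_eq_bot, mem_bot] at hv'
  simpa [hv'] using hu

theorem not_dvd_mixed (h : PairSub G A p q M) {x : X} (hxP : x ∈ P) (hxM : x ∈ M)
    (hq0 : pCoreOf p M = ⊥) (hx : x ∈ centralizer (pCoreOf q M : Set X)) : x = 1 := by
  have := c.mem_core h hxP (c.cen_cores h hxM (by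
    intro y hy
    rw [hq0, SetLike.mem_coe, mem_bot] at hy
    rw [hy, one_mul, mul_one]) hx)
  rwa [hq0, mem_bot] at this

theorem core_ne_bot_of_max (hM : MaxPair G A p q M) :
    pCoreOf p M ≠ ⊥ ∨ pCoreOf q M ≠ ⊥ := by
  by_contra hc
  push Not at hc
  have h0 : M = ⊥ := (eq_bot_iff_forall M).mpr fun x hx => by
    have := c.cen_cores hM.1 hx (fun y hy => by
        rw [hc.1, SetLike.mem_coe, mem_bot] at hy; rw [hy, one_mul, mul_one])
      (fun y hy => by rw [hc.2, SetLike.mem_coe, mem_bot] at hy; rw [hy, one_mul, mul_one])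
    rwa [hc.1, hc.2, bot_sup_eq, mem_bot] at this
  haveI := Fact.mk c.hp
  exact c.hP.ne_bot c.dvd ((hM.2 P c.pair_P (h0 ▸ bot_le)).trans h0)

/-- Both `{p, q}`-parts of the centralizer of `Y` lie in `M`. -/
theorem compare (hM : MaxPair G A p q M) (hU : pCoreOf p M ≠ ⊥) (hV : pCoreOf q M ≠ ⊥)
    {Y : Subgroup X} (hY : Y ≤ pCoreOf p M) (hYc : IsMulCommutative Y)
    (hAY : A ≤ normalizer (Y : Set X))
    {M' : Subgroup X} (hM' : MaxPair G A p q M') (h1 : P ⊓ centralizer (Y : Set X) ≤ M')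
    (h2 : Q ⊓ centralizer (Y : Set X) ≤ M') :
    pCoreOf p M' ≤ pCoreOf p M ∧ pCoreOf q M' ≤ pCoreOf q M ∧
      pCoreOf p M' ≠ ⊥ ∧ pCoreOf q M' ≠ ⊥ := by
  haveI := Fact.mk c.hp
  haveI := Fact.mk c.hq
  set U := pCoreOf p M with hUdef
  set V := pCoreOf q M with hVdef
  set U' := pCoreOf p M' with hU'def
  set V' := pCoreOf q M' with hV'def
  have hUP : U ≤ P := c.core_le hM.1
  have hU'P : U' ≤ P := c.core_le hM'.1
  have hVQ : V ≤ Q := c.symm.core_le hM.1.symm
  have hV'Q : V' ≤ Q := c.symm.core_le hM'.1.symm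
  have hUp : IsPGroup p U := Local.pCoreOf_isPGroup M
  have hVq : IsPGroup q V := Local.pCoreOf_isPGroup M
  have hPQ := c.inf_eq_bot
  have hAM : A ≤ normalizer (M : Set X) := hM.1.2.1
  have hUM : U ≤ M := Local.pCoreOf_le M
  have hVM : V ≤ M := Local.pCoreOf_le M
  have hMU : M ≤ normalizer (U : Set X) := Local.le_normalizer_pCoreOf M
  have hMV : M ≤ normalizer (V : Set X) := Local.le_normalizer_pCoreOf M
  have hUVc : U ≤ centralizer (V : Set X) := le_centralizer_of_inf_eq_bot (hUM.trans hMV)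
    (hVM.trans hMU) (le_bot_iff.mp ((inf_le_inf hUP hVQ).trans hPQ.le))
  set U0 := U ⊓ centralizer (Y : Set X) with hU0def
  have hYU0 : Y ≤ U0 := le_inf hY (le_centralizer Y)
  have hU0M' : U0 ≤ M' := (inf_le_inf_right _ hUP).trans h1
  have hVY : V ≤ centralizer (Y : Set X) := (le_centralizer_iff.mp hUVc).trans (centralizer_le hY)
  have hVM' : V ≤ M' := (le_inf hVQ hVY).trans h2
  set Z := Thompson.zenter U with hZdef
  have hZ0 : Z ≠ ⊥ := Thompson.zenter_ne_bot hUp hU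
  have hAU : A ≤ normalizer (U : Set X) := hAM.trans (Local.normalizer_le_normalizer_pCoreOf M)
  have hAV : A ≤ normalizer (V : Set X) := hAM.trans (Local.normalizer_le_normalizer_pCoreOf M)
  obtain ⟨hNZP, hNZQ⟩ := c.parts_normalizer_le hM
    (hAU.trans (Thompson.normalizer_le_normalizer_zenter U)) (inf_le_left.trans hUM) hZ0
    (hMU.trans (Thompson.normalizer_le_normalizer_zenter U))
  have hZU0 : Z ≤ U0 := fun z hz => ⟨hz.1, centralizer_le hY hz.2⟩
  have hCP : P ⊓ centralizer (U0 : Set X) ≤ M := (inf_le_inf_left P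
    ((centralizer_le hZU0).trans (centralizer_le_normalizer _))).trans hNZP
  have hCQ : Q ⊓ centralizer (U0 : Set X) ≤ M := (inf_le_inf_left Q
    ((centralizer_le hZU0).trans (centralizer_le_normalizer _))).trans hNZQ
  obtain ⟨hNVP, hNVQ⟩ := c.parts_normalizer_le hM hAV hVM hV hMV
  have hM'U' : M' ≤ normalizer (U' : Set X) := Local.le_normalizer_pCoreOf M'
  have hM'V' : M' ≤ normalizer (V' : Set X) := Local.le_normalizer_pCoreOf M'
  have hU'p : IsPGroup p U' := Local.pCoreOf_isPGroup M'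
  have hV'q : IsPGroup q V' := Local.pCoreOf_isPGroup M'
  -- `V` centralizes `U'`
  have hVU' : ⁅U', V⁆ = ⊥ := by
    refine commutator_eq_bot_of_AxB U' U0 V hU'p (hUp.to_le inf_le_left)
      (coprime_of_isPGroup hVq c.ne.symm c.hp) (hU0M'.trans hM'U') (hVM'.trans hM'U')
      ((le_centralizer_iff.mp hUVc).trans (centralizer_le inf_le_left)) fun y hy => ?_
    have hyM : y ∈ M := hCP ⟨hU'P hy.1, hy.2⟩
    refine mem_centralizer_iff.mpr fun v hv => ?_
    refine (commutatorElement_eq_one_iff_mul_comm.mp ?_)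
    rw [← mem_bot, ← hPQ]
    refine ⟨hU'P ?_, hVQ ?_⟩
    · rw [commutatorElement_def]
      exact mul_mem ((mem_normalizer_iff.mp (hM'U' (hVM' hv)) y).mp hy.1) (inv_mem hy.1)
    · rw [commutatorElement_def, mul_assoc v, mul_assoc v]
      exact mul_mem hv ((mem_normalizer_iff.mp (hMV hyM) v⁻¹).mp (inv_mem hv))
  -- `U0` centralizes `V'`
  have hU0V' : ⁅V', U0⁆ = ⊥ := by
    refine commutator_eq_bot_of_AxB V' V U0 hV'q hVq
      (coprime_of_isPGroup (hUp.to_le inf_le_left) c.ne c.hq) (hVM'.trans hM'V') (hU0M'.trans hM'V')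
      (inf_le_left.trans hUVc) fun y hy => ?_
    have hyM : y ∈ M := hNVQ ⟨hV'Q hy.1, centralizer_le_normalizer _ hy.2⟩
    refine mem_centralizer_iff.mpr fun v hv => ?_
    refine (commutatorElement_eq_one_iff_mul_comm.mp ?_)
    rw [← mem_bot, ← hPQ]
    refine ⟨hUP ?_, hV'Q ?_⟩
    · rw [commutatorElement_def, mul_assoc v, mul_assoc v]
      exact mul_mem hv.1 ((mem_normalizer_iff.mp (hMU hyM) v⁻¹).mp (inv_mem hv.1))
    · rw [commutatorElement_def]
      exact mul_mem ((mem_normalizer_iff.mp (hM'V' (hU0M' hv)) y).mp hy.1) (inv_mem hy.1)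
  rw [commutator_eq_bot_iff_le_centralizer] at hVU' hU0V'
  have hU'C : U' ≤ centralizer (V : Set X) := hVU'
  have hV'C : V' ≤ centralizer (U0 : Set X) := hU0V'
  have hU'M : U' ≤ M := (le_inf hU'P (hU'C.trans (centralizer_le_normalizer _))).trans hNVP
  have hV'M : V' ≤ M := (le_inf hV'Q hV'C).trans hCQ
  -- `V'` centralizes `U`
  have hV'U : V' ≤ centralizer (U : Set X) := by
    rw [le_centralizer_iff, ← commutator_eq_bot_iff_le_centralizer]
    refine commutator_eq_bot_of_AxB U U0 V' hUp (hUp.to_le inf_le_left)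
      (coprime_of_isPGroup hV'q c.ne.symm c.hp) ((inf_le_left.trans hUM).trans hMU)
      (hV'M.trans hMU) hV'C fun y hy => ?_
    have hy0 : y ∈ U0 := ⟨hy.1, centralizer_le hYU0 hy.2⟩
    exact mem_centralizer_iff.mpr fun v hv => (mem_centralizer_iff.mp (hV'C hv) y hy0).symm
  have hV'le : V' ≤ V := by
    set C := M ⊓ centralizer (U : Set X) with hCdef
    have hMC : M ≤ normalizer (C : Set X) := (le_inf le_normalizer
      (hMU.trans (Local.normalizer_le_normalizer_centralizer U))).trans inf_normalizer_le_normalizer_inf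
    have hCM' : C ≤ M' := c.le_of_parts
      ⟨inf_le_left.trans hM.1.1, inv_centralizer_inf hAM hAU,
        fun t ht hd => hM.1.2.2 t ht (hd.trans (card_dvd_of_le inf_le_left))⟩
      ((inf_le_inf_left P (inf_le_right.trans (centralizer_le hY))).trans h1)
      ((inf_le_inf_left Q (inf_le_right.trans (centralizer_le hY))).trans h2)
    refine (Local.le_pCoreOf (H := C) (le_inf hV'M hV'U) (hCM'.trans hM'V') hV'q).trans
      (Local.le_pCoreOf ((Local.pCoreOf_le C).trans inf_le_left)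
        (hMC.trans (Local.normalizer_le_normalizer_pCoreOf C)) (Local.pCoreOf_isPGroup C))
  have hV'0 : V' ≠ ⊥ := fun h0 => by
    refine hV ((eq_bot_iff_forall V).mpr fun v hv => ?_)
    exact c.symm.not_dvd_mixed hM'.1.symm (hVQ hv) (hVM' hv) h0
      (le_centralizer_iff.mp hU'C hv)
  have hU'0 : U' ≠ ⊥ := fun h0 => by
    refine hZ0 ((eq_bot_iff_forall Z).mpr fun z hz => ?_)
    exact c.not_dvd_mixed hM'.1 (hUP hz.1) (hU0M' (hZU0 hz)) h0
      (le_centralizer_iff.mp hV'C (hZU0 hz))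
  obtain ⟨hNV'P, hNV'Q⟩ := c.parts_normalizer_le hM'
    (hM'.1.2.1.trans (Local.normalizer_le_normalizer_pCoreOf M')) (Local.pCoreOf_le M') hV'0 hM'V'
  have hU'le : U' ≤ U := by
    set C := M ⊓ centralizer (V : Set X) with hCdef
    have hMC : M ≤ normalizer (C : Set X) := (le_inf le_normalizer
      (hMV.trans (Local.normalizer_le_normalizer_centralizer V))).trans inf_normalizer_le_normalizer_inf
    have hN : C ≤ normalizer (V' : Set X) :=
      inf_le_right.trans ((centralizer_le hV'le).trans (centralizer_le_normalizer _))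
    have hCM' : C ≤ M' := c.le_of_parts
      ⟨inf_le_left.trans hM.1.1, inv_centralizer_inf hAM hAV,
        fun t ht hd => hM.1.2.2 t ht (hd.trans (card_dvd_of_le inf_le_left))⟩
      ((inf_le_inf_left P hN).trans hNV'P) ((inf_le_inf_left Q hN).trans hNV'Q)
    refine (Local.le_pCoreOf (H := C) (le_inf hU'M hU'C) (hCM'.trans hM'U') hU'p).trans
      (Local.le_pCoreOf ((Local.pCoreOf_le C).trans inf_le_left)
        (hMC.trans (Local.normalizer_le_normalizer_pCoreOf C)) (Local.pCoreOf_isPGroup C))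
  exact ⟨hU'le, hV'le, hU'0, hV'0⟩

/-- In a mixed maximal subgroup containing the parts of all relevant centralizers, `P` is contained. -/
theorem le_of_mixed (hM : MaxPair G A p q M) (hU : pCoreOf p M ≠ ⊥)
    (hUle : ∀ Y ≤ pCoreOf p M, IsMulCommutative Y → A ≤ normalizer (Y : Set X) → Y ≠ ⊥ →
      P ⊓ centralizer (Y : Set X) ≤ M)
    (hVle : ∀ Y ≤ pCoreOf q M, IsMulCommutative Y → A ≤ normalizer (Y : Set X) → Y ≠ ⊥ →
      P ⊓ centralizer (Y : Set X) ≤ M) : P ≤ M := by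
  haveI := Fact.mk c.hp
  haveI := Fact.mk c.hq
  have hS := c.min
  set U := pCoreOf p M with hUdef
  set V := pCoreOf q M with hVdef
  by_contra hPM
  have hUP : U ≤ P := c.core_le hM.1
  have hVQ : V ≤ Q := c.symm.core_le hM.1.symm
  have hAU : A ≤ normalizer (U : Set X) := hM.1.2.1.trans (Local.normalizer_le_normalizer_pCoreOf M)
  have hAV : A ≤ normalizer (V : Set X) := hM.1.2.1.trans (Local.normalizer_le_normalizer_pCoreOf M)
  obtain ⟨a₀, ha₀, ha₀1, hbad⟩ : ∃ a ∈ A, a ≠ 1 ∧ ¬ P ⊓ centralizer ({a} : Set X) ≤ M := by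
    by_contra hc
    push Not at hc
    exact hPM (hS.le_of_cen_le c.hP.le c.hP.inv hc)
  have hline : ∀ W : Subgroup X, W ≤ G → A ≤ normalizer (W : Set X) →
      (∀ Y ≤ W, IsMulCommutative Y → A ≤ normalizer (Y : Set X) → Y ≠ ⊥ →
        P ⊓ centralizer (Y : Set X) ≤ M) → W ⊓ centralizer ({a₀} : Set X) = ⊥ := by
    intro W hW hAW hh
    by_contra h0
    refine hbad ((le_inf inf_le_left fun x hx => mem_centralizer_iff.mpr fun y hy => ?_).trans
      (hh (W ⊓ centralizer ({a₀} : Set X)) inf_le_left (hS.cen_comm hW ha₀ ha₀1)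
        (hS.inv_cen hAW ha₀) h0))
    exact hS.commute_of_cen ha₀ ha₀1 (hW hy.1) (c.hP.le hx.1) (mem_centralizer_iff.mp hy.2 a₀ rfl)
      (mem_centralizer_iff.mp hx.2 a₀ rfl)
  have hU0 : U ⊓ centralizer ({a₀} : Set X) = ⊥ := hline U (hUP.trans c.hP.le) hAU hUle
  have hV0 : V ⊓ centralizer ({a₀} : Set X) = ⊥ := hline V (hVQ.trans c.hQ.le) hAV hVle
  have hzc : ∀ S : Subgroup X, IsMulCommutative ↥(Thompson.zenter S) := fun S =>
    ⟨⟨fun x y => Subtype.ext (y.2.2 x x.2.1)⟩⟩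
  set Z := Thompson.zenter P with hZdef
  have hAZ : A ≤ normalizer (Z : Set X) := c.hP.inv.trans (Thompson.normalizer_le_normalizer_zenter P)
  have hZM : Z ≤ M := le_trans (le_inf inf_le_left fun z hz => centralizer_le
      ((inf_le_left : Thompson.zenter U ≤ U).trans hUP) hz.2)
    (hUle _ inf_le_left (hzc U) (hAU.trans (Thompson.normalizer_le_normalizer_zenter U))
      (Thompson.zenter_ne_bot (Local.pCoreOf_isPGroup M) hU))
  have hZU : Z ⊓ U = ⊥ := by
    by_contra h0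
    haveI := hzc P
    refine hPM ((le_inf le_rfl fun x hx => mem_centralizer_iff.mpr fun z hz => ?_).trans
      (hUle (Z ⊓ U) inf_le_right
        ⟨⟨fun x y => Subtype.ext (mem_centralizer_iff.mp y.2.1.2 (x : X) x.2.1.1)⟩⟩ (inv_inf hAZ hAU) h0))
    exact (mem_centralizer_iff.mp hz.1.2 x hx).symm
  have hK0 : ∀ T : Subgroup X, T ≤ Z → T ≤ centralizer (V : Set X) → T = ⊥ := fun T hT hTV =>
    (eq_bot_iff_forall T).mpr fun t ht => by
      have h1 := c.mem_core hM.1 (hT ht).1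
        (c.cen_cores hM.1 (hZM (hT ht)) (centralizer_le hUP (hT ht).2) (hTV ht))
      exact mem_bot.mp (hZU ▸ ⟨hT ht, h1⟩)
  have hVp : IsPGroup q V := Local.pCoreOf_isPGroup M
  have hMV : M ≤ normalizer (V : Set X) := Local.le_normalizer_pCoreOf M
  have hZa : Z ≤ centralizer ({a₀} : Set X) := by
    refine hS.le_of_cen_le (inf_le_left.trans c.hP.le) hAZ fun a ha ha1 => ?_
    by_cases h : a₀ ∈ zpowers a
    · rw [hS.cen_eq ha h ha₀1]; exact inf_le_right
    refine (le_of_eq (hK0 _ inf_le_left ?_)).trans bot_le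
    rw [le_centralizer_iff, ← commutator_eq_bot_iff_le_centralizer]
    exact hS.commutator_eq_bot (hVQ.trans c.hQ.le) hAV hVp
      ((inf_le_left.trans inf_le_left).trans c.hP.le) (hS.inv_cen hAZ ha)
      ((inf_le_left.trans hZM).trans hMV)
      (coprime_of_isPGroup (c.hP.pg.to_le (inf_le_left.trans inf_le_left)) c.ne c.hq) ha ha1
      inf_le_right ha₀ h (hV0.trans_le bot_le)
  have hZp : (Nat.card Z).Coprime q := coprime_of_isPGroup (c.hP.pg.to_le inf_le_left) c.ne c.hq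
  set R := ⁅P, zpowers a₀⁆ with hRdef
  have haP : zpowers a₀ ≤ normalizer (P : Set X) := zpowers_le.mpr (c.hP.inv ha₀)
  have hRP : R ≤ P := commutator_le_of_le_normalizer haP
  have hRV : R ≤ centralizer ((⁅V, Z⁆ : Subgroup X) : Set X) :=
    hS.commutator_zpowers_le c.hP.le c.hP.inv c.hP.pg ha₀ fun b hb hba x hx =>
      hS.mem_centralizer_commutator' (hVQ.trans c.hQ.le) hAV hVp (inf_le_left.trans c.hP.le) hAZ
        (hZM.trans hMV) hZp ha₀ ha₀1 hZa hb hba
        (mem_centralizer_iff.mpr fun z hz => (mem_centralizer_iff.mp hz.2 x hx.1).symm)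
        (c.hP.le hx.1) hx.2
  have hR0 : R ≠ ⊥ := by
    intro h0
    refine hU ((eq_bot_iff_forall U).mpr fun x hx => mem_bot.mp (hU0 ▸ ⟨hx, ?_⟩))
    rw [← centralizer_zpowers]
    exact commutator_eq_bot_iff_le_centralizer.mp h0 (hUP hx)
  refine inf_zenter_ne_bot c.hP.pg hRP (normalizer_commutator_ge_left P (zpowers a₀)) hR0
    (hK0 _ inf_le_right fun t ht => mem_centralizer_iff.mpr fun v hv => ?_)
  obtain ⟨n, hn⟩ := IsPGroup.iff_card.mp hVp
  haveI : Group.IsNilpotent V := hVp.isNilpotent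
  obtain ⟨m, hm, d, hd, rfl⟩ := le_commutator_sup_centralizer (hZM.trans hMV)
    (by rw [hn]; exact hZp.pow_right n) (Or.inr inferInstance) hv
  exact (Commute.mul_left (mem_centralizer_iff.mp (hRV ht.1) m hm)
    (mem_centralizer_iff.mp hd.2 t ht.2).symm : Commute (m * d) t).eq

/-- No maximal pair subgroup has both cores nontrivial. -/
theorem no_mixed (hM : MaxPair G A p q M) : pCoreOf p M = ⊥ ∨ pCoreOf q M = ⊥ := by
  by_contra hc
  push Not at hc
  obtain ⟨M₀, ⟨hM₀, hU, hV⟩, hmin⟩ := Set.exists_min_image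
    {M | MaxPair G A p q M ∧ pCoreOf p M ≠ ⊥ ∧ pCoreOf q M ≠ ⊥}
    (fun M => Nat.card (pCoreOf p M) * Nat.card (pCoreOf q M)) (Set.toFinite _) ⟨M, hM, hc⟩
  have key : ∀ {p' q' : ℕ} {P' Q' : Subgroup X}, Ctx G A r p' q' P' Q' →
      MaxPair G A p' q' M₀ → pCoreOf p' M₀ ≠ ⊥ → pCoreOf q' M₀ ≠ ⊥ →
      (∀ M', MaxPair G A p' q' M' → pCoreOf p' M' ≠ ⊥ → pCoreOf q' M' ≠ ⊥ →
        Nat.card (pCoreOf p' M₀) * Nat.card (pCoreOf q' M₀) ≤
          Nat.card (pCoreOf p' M') * Nat.card (pCoreOf q' M')) →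
      ∀ Y ≤ pCoreOf p' M₀, IsMulCommutative Y → A ≤ normalizer (Y : Set X) → Y ≠ ⊥ →
        P' ⊓ centralizer (Y : Set X) ≤ M₀ ∧ Q' ⊓ centralizer (Y : Set X) ≤ M₀ := by
    intro p' q' P' Q' c' hM₀ hU hV hmin Y hY hYc hAY hY0
    have hYM : Y ≤ M₀ := hY.trans (Local.pCoreOf_le M₀)
    obtain ⟨M', hM', h1, h2⟩ := c'.exists_max_centralizer (hYM.trans hM₀.1.1) hAY hY0
      fun e => (c'.lt hM₀.1).not_ge (e ▸ hYM)
    obtain ⟨hle1, hle2, hU', hV'⟩ := c'.compare hM₀ hU hV hY hYc hAY hM' h1 h2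
    have h3 := hmin M' hM' hU' hV'
    have e1 : pCoreOf p' M' = pCoreOf p' M₀ := eq_of_le_of_card_ge hle1 (by
      by_contra hlt
      push Not at hlt
      exact absurd h3 (not_le.mpr (Nat.mul_lt_mul_of_lt_of_le hlt (Nat.le_of_dvd Nat.card_pos
        (card_dvd_of_le hle2)) Nat.card_pos)))
    obtain ⟨hNP, hNQ⟩ := c'.parts_normalizer_le hM₀
      (hM₀.1.2.1.trans (Local.normalizer_le_normalizer_pCoreOf M₀)) (Local.pCoreOf_le M₀) hU
      (Local.le_normalizer_pCoreOf M₀)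
    have hN : M' ≤ normalizer (pCoreOf p' M₀ : Set X) := e1 ▸ Local.le_normalizer_pCoreOf M'
    obtain rfl : M₀ = M' := hM'.2 _ hM₀.1 (c'.le_of_parts hM'.1
      ((inf_le_inf_left P' hN).trans hNP) ((inf_le_inf_left Q' hN).trans hNQ))
    exact ⟨h1, h2⟩
  have hp' := key c hM₀ hU hV fun M' h1 h2 h3 => hmin M' ⟨h1, h2, h3⟩
  have hq' := key c.symm hM₀.symm hV hU fun M' h1 h2 h3 => by
    rw [mul_comm, mul_comm (Nat.card (pCoreOf q M'))]
    exact hmin M' ⟨h1.symm, h3, h2⟩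
  refine c.nolink ⟨M₀, hM₀.1, c.le_of_mixed hM₀ hU (fun Y h1 h2 h3 h4 => (hp' Y h1 h2 h3 h4).1)
    (fun Y h1 h2 h3 h4 => (hq' Y h1 h2 h3 h4).2), ?_⟩
  exact c.symm.le_of_mixed hM₀.symm hV (fun Y h1 h2 h3 h4 => (hq' Y h1 h2 h3 h4).1)
    fun Y h1 h2 h3 h4 => (hp' Y h1 h2 h3 h4).2

/-- Where `O_q = 1`, the `q`-part is abelian. -/
theorem qpart_commutative (hM : MaxPair G A p q M) (hV : pCoreOf q M = ⊥) :
    IsMulCommutative ↥(Q ⊓ M) := by
  haveI := Fact.mk c.hp
  haveI := Fact.mk c.hq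
  have hS := c.min
  set U := pCoreOf p M with hUdef
  set Q0 := Q ⊓ M with hQ0def
  have hQ0q : IsPGroup q Q0 := c.hQ.pg.to_le inf_le_left
  have hQ0G : Q0 ≤ G := inf_le_right.trans hM.1.1
  have hAQ0 : A ≤ normalizer (Q0 : Set X) := inv_inf c.hQ.inv hM.1.2.1
  have hUP : U ≤ P := c.core_le hM.1
  have hAU : A ≤ normalizer (U : Set X) := hM.1.2.1.trans (Local.normalizer_le_normalizer_pCoreOf M)
  have hMU : M ≤ normalizer (U : Set X) := Local.le_normalizer_pCoreOf M
  set D := ⁅Q0, Q0⁆ with hDdef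
  by_contra hnc
  have hD0 : D ≠ ⊥ := fun h0 => hnc ⟨⟨fun x y => Subtype.ext
    (commutatorElement_eq_one_iff_mul_comm.mp
      (mem_bot.mp (h0 ▸ commutator_mem_commutator x.2 y.2)))⟩⟩
  have hDQ : D ≤ Q0 := commutator_le_of_le_normalizer le_normalizer
  set T0 := D ⊓ (Q0 ⊓ centralizer (Q0 : Set X)) with hT0def
  have hT0 : T0 ≠ ⊥ := inf_zenter_ne_bot hQ0q hDQ (normalizer_commutator_ge_left Q0 Q0) hD0
  have hT0G : T0 ≤ G := (inf_le_left.trans hDQ).trans hQ0G
  have hAT0 : A ≤ normalizer (T0 : Set X) :=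
    inv_inf (inv_commutator hAQ0 hAQ0) (inv_centralizer_inf hAQ0 hAQ0)
  obtain ⟨a, ha, ha1, hT⟩ := hS.exists_cen_ne_bot hT0G hAT0 hT0
  set T := T0 ⊓ centralizer ({a} : Set X) with hTdef
  have hTQ0 : T ≤ Q0 := (inf_le_left.trans inf_le_left).trans hDQ
  have hTM : T ≤ M := hTQ0.trans inf_le_right
  have hTp : (Nat.card T).Coprime p := coprime_of_isPGroup (hQ0q.to_le hTQ0) c.ne.symm c.hp
  have hTU : T ≤ normalizer (U : Set X) := hTM.trans hMU
  have hmove : ¬ T ≤ centralizer (U : Set X) := fun h => hT ((eq_bot_iff_forall T).mpr fun t ht =>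
    c.symm.not_dvd_mixed hM.1.symm (hTQ0 ht).1 (hTM ht) hV (h ht))
  have haQ : zpowers a ≤ normalizer (Q0 : Set X) := zpowers_le.mpr (hAQ0 ha)
  have hK : ⁅Q0, zpowers a⁆ ≤ centralizer ((⁅U, T⁆ : Subgroup X) : Set X) :=
    hS.commutator_zpowers_le hQ0G hAQ0 hQ0q ha fun b hb hba x hx =>
      hS.mem_centralizer_commutator' (hUP.trans c.hP.le) hAU (Local.pCoreOf_isPGroup M)
        (inf_le_left.trans hT0G) (hS.inv_cen hAT0 ha) hTU hTp ha ha1 inf_le_right hb hba
        (mem_centralizer_iff.mpr fun t ht =>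
          (mem_centralizer_iff.mp ht.1.2.2 x hx.1).symm) (hQ0G hx.1) hx.2
  set K := ⁅Q0, zpowers a⁆ with hKdef
  have hKn : Q0 ≤ normalizer (K : Set X) := normalizer_commutator_ge_left Q0 (zpowers a)
  haveI : (K.subgroupOf Q0).Normal := (normal_subgroupOf_iff_le_normalizer
    (commutator_le_of_le_normalizer haQ)).mpr hKn
  set f := QuotientGroup.mk' (K.subgroupOf Q0)
  have hf : ∀ x (hx : x ∈ Q0), ∃ z, ∃ hz : z ∈ Q0, z ∈ centralizer ({a} : Set X) ∧
      f ⟨x, hx⟩ = f ⟨z, hz⟩ := by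
    intro x hx
    obtain ⟨n, hn, z, hz, rfl⟩ := le_commutator_sup_centralizer haQ (hS.coprime_zpowers hQ0G ha)
      (Or.inl (isSolvable_of_le (zpowers_le.mpr ha) hS.solvA)) hx
    rw [centralizer_zpowers] at hz
    refine ⟨z, hz.1, hz.2, ?_⟩
    have hn' : (⟨n, commutator_le_of_le_normalizer haQ hn⟩ : Q0) ∈ K.subgroupOf Q0 := hn
    rw [show (⟨n * z, hx⟩ : Q0) = ⟨n, commutator_le_of_le_normalizer haQ hn⟩ * ⟨z, hz.1⟩ from rfl,
      map_mul, show f ⟨n, commutator_le_of_le_normalizer haQ hn⟩ = 1 from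
        (QuotientGroup.eq_one_iff _).mpr hn', one_mul]
  have hDK : D ≤ K := by
    rw [hDdef, commutator_le]
    intro x hx y hy
    obtain ⟨z, hz, hza, hfz⟩ := hf x hx
    obtain ⟨w, hw, hwa, hfw⟩ := hf y hy
    have h1 : f ⁅(⟨x, hx⟩ : Q0), (⟨y, hy⟩ : Q0)⁆ = 1 := by
      rw [map_commutatorElement, hfz, hfw, ← map_commutatorElement,
        show ⁅(⟨z, hz⟩ : Q0), (⟨w, hw⟩ : Q0)⁆ = 1 from commutatorElement_eq_one_iff_mul_comm.mpr
          (Subtype.ext (hS.commute_of_cen ha ha1 (hQ0G hz) (hQ0G hw)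
            (mem_centralizer_iff.mp hza a rfl) (mem_centralizer_iff.mp hwa a rfl))), map_one]
    have h2 := (QuotientGroup.eq_one_iff (N := K.subgroupOf Q0) _).mp h1
    exact h2
  have hUT : ⁅U, T⁆ = ⊥ := by
    have hU : IsPGroup p U := Local.pCoreOf_isPGroup M
    obtain ⟨n, hn⟩ := IsPGroup.iff_card.mp hU
    haveI : Group.IsNilpotent U := hU.isNilpotent
    refine commutator_eq_bot_of_commutator_commutator_eq_bot hTU
      (by rw [hn]; exact hTp.pow_right n) (Or.inr inferInstance)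
      (commutator_eq_bot_iff_le_centralizer.mpr ?_)
    exact le_centralizer_iff.mp (((inf_le_left.trans inf_le_left).trans hDK).trans hK)
  exact hmove (le_centralizer_iff.mp (commutator_eq_bot_iff_le_centralizer.mp hUT))

/-- For `p` odd, a maximal pair subgroup with `O_q = 1` contains `P` and normalizes `Z(J(P))`. -/
theorem ptype (h2 : p ≠ 2) (hM : MaxPair G A p q M) (hV : pCoreOf q M = ⊥) :
    P ≤ M ∧ M ≤ normalizer (centerThompsonAOf P : Set X) := by
  haveI := Fact.mk c.hp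
  haveI := Fact.mk c.hq
  have hS := c.min
  haveI := hS.solv M (c.lt hM.1) hM.1.2.1
  have hU : pCoreOf p M ≠ ⊥ := (c.core_ne_bot_of_max hM).resolve_right (absurd hV ·)
  have hcU : centralizer (pCore p M : Set M) ≤ pCore p M := by
    intro x hx
    have hV' : pCore q M = ⊥ := by
      rwa [pCoreOf, Subgroup.map_eq_bot_iff_of_injective _ M.subtype_injective] at hV
    have h1 := centralizer_cores_le hM.1.2.2 (x := x) ⟨hx, fun y hy => by
      rw [hV', SetLike.mem_coe, mem_bot] at hy; rw [hy, one_mul, mul_one]⟩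
    rwa [hV', sup_bot_eq] at h1
  set P0 := P ⊓ M with hP0def
  have hP0 : P0 ≠ ⊥ := ne_bot_of_le_ne_bot hU (le_inf (c.core_le hM.1) (Local.pCoreOf_le M))
  have hP0p : IsPGroup p (P0.subgroupOf M) := (c.hP.pg.to_le inf_le_left : IsPGroup p P0).comap_subtype
  have hQ0q : IsPGroup q ((Q ⊓ M).subgroupOf M) :=
    (c.hQ.pg.to_le inf_le_left : IsPGroup q ↥(Q ⊓ M)).comap_subtype
  haveI := c.qpart_commutative hM hV
  have hn := centerThompsonA_normal_pair hM.1.2.2 c.ne h2 hcU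
    (hQ0q.toSylow (p := q) (c.hQ.inf hS hM.1.1 hM.1.2.1))
    (show IsMulCommutative ↥((Q ⊓ M).subgroupOf M) from
      ⟨⟨fun x y => Subtype.ext (Subtype.ext (congrArg (fun z : ↥(Q ⊓ M) => (z : X))
        (mul_comm' (⟨((x : M) : X), x.2⟩ : ↥(Q ⊓ M)) (⟨((y : M) : X), y.2⟩ : ↥(Q ⊓ M)))))⟩⟩)
    (hP0p.toSylow (p := p) (c.hP.inf hS hM.1.1 hM.1.2.1))
  rw [show ((hP0p.toSylow (c.hP.inf hS hM.1.1 hM.1.2.1) : Sylow p M) : Subgroup M) =
    P0.subgroupOf M from rfl] at hn
  have hMn : M ≤ normalizer (centerThompsonAOf P0 : Set X) := by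
    have h1 := le_normalizer_map M.subtype (H := centerThompsonAOf (P0.subgroupOf M))
    rw [normalizer_eq_top_iff.mpr hn, Local.GlaubermanZJ.map_centerThompsonAOf' _ _
      M.subtype_injective.injOn, map_subgroupOf_eq_of_le inf_le_right, ← MonoidHom.range_eq_map,
      range_subtype] at h1
    exact h1
  have hZJ0 : centerThompsonAOf P0 ≠ ⊥ :=
    Local.GlaubermanZJ.centerThompsonAOf_ne_bot (c.hP.pg.to_le inf_le_left) hP0
  have hAP0 : A ≤ normalizer (P0 : Set X) := inv_inf c.hP.inv hM.1.2.1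
  obtain ⟨hNP, -⟩ := c.parts_normalizer_le hM
    (hAP0.trans (Local.GlaubermanZJ.normalizer_le_normalizer_centerThompsonAOf P0))
    ((Local.GlaubermanZJ.centerThompsonAOf_le P0).trans inf_le_right) hZJ0 hMn
  have hPM : P0 = P := by
    haveI : Group.IsNilpotent P := c.hP.pg.isNilpotent
    by_contra hne
    have hlt : P0.subgroupOf P < ⊤ := lt_top_iff_ne_top.mpr fun h =>
      hne (le_antisymm inf_le_left (subgroupOf_eq_top.mp h))
    obtain ⟨x, hxN, hx⟩ :=
      Set.exists_of_ssubset (Group.normalizerCondition_of_isNilpotent _ hlt)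
    refine hx (mem_subgroupOf.mpr ⟨x.2, hNP ⟨x.2, ?_⟩⟩)
    refine Local.GlaubermanZJ.normalizer_le_normalizer_centerThompsonAOf P0 ?_
    have h1 := le_normalizer_map P.subtype (mem_map_of_mem P.subtype hxN)
    rwa [map_subgroupOf_eq_of_le inf_le_left] at h1
  rw [hPM] at hMn
  exact ⟨hPM.ge.trans inf_le_right, hMn⟩

/-- The contradiction. -/
theorem false (h2 : p ≠ 2) : False := by
  haveI := Fact.mk c.hp
  haveI := Fact.mk c.hq
  have hS := c.min
  have hne := c.hP.ne_bot c.dvd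
  have hnotP : ∀ M, MaxPair G A p q M → P ≤ M → pCoreOf p M ≠ ⊥ := by
    intro M hM hPM h0
    have hc := c.symm.qpart_commutative hM.symm h0
    rw [inf_eq_left.mpr hPM] at hc
    exact hS.no_faithful c.ne c.hP c.dvd hc ((Local.pCoreOf_le M).trans hM.1.1)
      (hM.1.2.1.trans (Local.normalizer_le_normalizer_pCoreOf M)) (Local.pCoreOf_isPGroup M)
      (hPM.trans (Local.le_normalizer_pCoreOf M))
      ((eq_bot_iff_forall _).mpr fun x hx => c.not_dvd_mixed hM.1 hx.1 (hPM hx.1) h0 hx.2)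
  obtain ⟨K₁, hK₁, hPK⟩ := c.exists_max_ge c.pair_P
  have hU : pCoreOf p K₁ ≠ ⊥ := hnotP K₁ hK₁ hPK
  have hV1 : pCoreOf q K₁ = ⊥ := (c.no_mixed hK₁).resolve_left hU
  have huniq : ∀ M, MaxPair G A p q M → pCoreOf p M ≠ ⊥ → M = K₁ := by
    intro M hM hne'
    obtain ⟨-, hMN⟩ := c.ptype h2 hM ((c.no_mixed hM).resolve_left hne')
    obtain ⟨-, hKN⟩ := c.ptype h2 hK₁ hV1
    obtain ⟨h1, h3⟩ := c.parts_normalizer_le hK₁
      (c.hP.inv.trans (Local.GlaubermanZJ.normalizer_le_normalizer_centerThompsonAOf P))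
      ((Local.GlaubermanZJ.centerThompsonAOf_le P).trans hPK)
      (Local.GlaubermanZJ.centerThompsonAOf_ne_bot c.hP.pg hne) hKN
    exact (hM.2 K₁ hK₁.1 (c.le_of_parts hM.1 ((inf_le_inf_left P hMN).trans h1)
      ((inf_le_inf_left Q hMN).trans h3))).symm
  set U := pCoreOf p K₁ with hUdef
  have hUP : U ≤ P := c.core_le hK₁.1
  have hAU : A ≤ normalizer (U : Set X) := hK₁.1.2.1.trans (Local.normalizer_le_normalizer_pCoreOf K₁)
  have hU1 : ∀ T : Subgroup X, T ≤ Q → T ≤ K₁ → T ≤ centralizer (U : Set X) → T = ⊥ :=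
    fun T hTQ hTK hTU => (eq_bot_iff_forall T).mpr fun t ht =>
      c.symm.not_dvd_mixed hK₁.1.symm (hTQ ht) (hTK ht) hV1 (hTU ht)
  -- a line meeting `P` has its `q`-part in `K₁`
  have hgood : ∀ b ∈ A, b ≠ 1 → P ⊓ centralizer ({b} : Set X) ≠ ⊥ →
      Q ⊓ centralizer ({b} : Set X) ≤ K₁ := by
    intro b hb hb1 hY0
    by_contra hbad
    set Y := P ⊓ centralizer ({b} : Set X) with hYdef
    have hYG : Y ≤ G := inf_le_left.trans c.hP.le
    have hAY : A ≤ normalizer (Y : Set X) := hS.inv_cen c.hP.inv hb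
    have hPG : P ≠ G := fun e => (c.lt c.pair_P).ne e
    obtain ⟨K₂, hK₂, hY1, hY2⟩ := c.exists_max_centralizer hYG hAY hY0
      fun e => hPG (le_antisymm c.hP.le (e ▸ inf_le_left))
    have hne2 : K₂ ≠ K₁ := by
      rintro rfl
      refine hbad ((le_inf inf_le_left fun x hx => mem_centralizer_iff.mpr fun y hy => ?_).trans hY2)
      exact hS.commute_of_cen hb hb1 (hYG hy) (c.hQ.le hx.1) (mem_centralizer_iff.mp hy.2 b rfl)
        (mem_centralizer_iff.mp hx.2 b rfl)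
    have hB0 : pCoreOf p K₂ = ⊥ := by_contra fun h => hne2 (huniq K₂ hK₂ h)
    obtain ⟨a, ha, ha1, hZa⟩ := hS.exists_cen_ne_bot (inf_le_left.trans c.hP.le : Thompson.zenter P ≤ G)
      (c.hP.inv.trans (Thompson.normalizer_le_normalizer_zenter P))
      (Thompson.zenter_ne_bot c.hP.pg hne)
    set T := Thompson.zenter P ⊓ centralizer ({a} : Set X) with hTdef
    have hTP : T ≤ P := inf_le_left.trans inf_le_left
    have hTG : T ≤ G := hTP.trans c.hP.le
    obtain ⟨K₃, hK₃, hT1, hT2⟩ := c.exists_max_centralizer hTG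
      (hS.inv_cen (c.hP.inv.trans (Thompson.normalizer_le_normalizer_zenter P)) ha) hZa
      fun e => hPG (le_antisymm c.hP.le (e ▸ hTP))
    have hPK₃ : P ≤ K₃ := (le_inf le_rfl fun x hx => mem_centralizer_iff.mpr fun t ht =>
      (mem_centralizer_iff.mp ht.1.2 x hx).symm).trans hT1
    have hK₃e : K₃ = K₁ := huniq K₃ hK₃ (hnotP K₃ hK₃ hPK₃)
    have hQa : Q ⊓ centralizer ({a} : Set X) ≤ K₁ := by
      rw [← hK₃e]
      refine (le_inf inf_le_left fun x hx => mem_centralizer_iff.mpr fun t ht => ?_).trans hT2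
      exact hS.commute_of_cen ha ha1 (hTG ht) (c.hQ.le hx.1) (mem_centralizer_iff.mp ht.2 a rfl)
        (mem_centralizer_iff.mp hx.2 a rfl)
    have hab : a ∉ zpowers b := fun h => hbad (by rwa [← hS.cen_eq hb h ha1])
    have hYK : Y ≤ K₂ := by
      refine (le_inf inf_le_left fun x hx => mem_centralizer_iff.mpr fun y hy => ?_).trans hY1
      exact hS.commute_of_cen hb hb1 (hYG hy) (hYG hx) (mem_centralizer_iff.mp hy.2 b rfl)
        (mem_centralizer_iff.mp hx.2 b rfl)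
    set B := pCoreOf q K₂ with hBdef
    have hBQ : B ≤ Q := c.symm.core_le hK₂.1.symm
    have hAB : A ≤ normalizer (B : Set X) := hK₂.1.2.1.trans (Local.normalizer_le_normalizer_pCoreOf K₂)
    have hYB : Y ≤ normalizer (B : Set X) := hYK.trans (Local.le_normalizer_pCoreOf K₂)
    set T₂ := B ⊓ centralizer ({a} : Set X) with hT₂def
    have hT₂K : T₂ ≤ K₁ := (inf_le_inf_right _ hBQ).trans hQa
    have hT₂Y : ¬ T₂ ≤ centralizer (Y : Set X) := by
      intro h
      have h1 := hS.commutator_eq_bot (hBQ.trans c.hQ.le) hAB (Local.pCoreOf_isPGroup K₂) hYG hAY hYB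
        (coprime_of_isPGroup (c.hP.pg.to_le inf_le_left) c.ne c.hq) hb hb1 inf_le_right ha hab h
      rw [commutator_eq_bot_iff_le_centralizer] at h1
      exact hY0 ((eq_bot_iff_forall Y).mpr fun y hy =>
        c.not_dvd_mixed hK₂.1 hy.1 (hYK hy) hB0 (le_centralizer_iff.mp h1 hy))
    have hT₂0 : T₂ ≠ ⊥ := fun h => hT₂Y (h.trans_le bot_le)
    have hUb : U ⊓ centralizer ({b} : Set X) ≤ centralizer (T₂ : Set X) := fun u hu =>
      mem_centralizer_iff.mpr fun v hv => commutatorElement_eq_one_iff_mul_comm.mp (by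
        rw [← mem_bot, ← c.inf_eq_bot]
        refine ⟨hUP ?_, hBQ ?_⟩
        · rw [commutatorElement_def]
          exact mul_mem ((mem_normalizer_iff.mp
            (Local.le_normalizer_pCoreOf K₁ (hT₂K hv)) u).mp hu.1) (inv_mem hu.1)
        · rw [commutatorElement_def, mul_assoc v, mul_assoc v]
          exact mul_mem hv.1 ((mem_normalizer_iff.mp (hYB ⟨hUP hu.1, hu.2⟩) v⁻¹).mp (inv_mem hv.1)))
    refine hT₂0 (hU1 T₂ (inf_le_left.trans hBQ) hT₂K ?_)
    rw [le_centralizer_iff, ← commutator_eq_bot_iff_le_centralizer]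
    exact hS.commutator_eq_bot (hUP.trans c.hP.le) hAU (Local.pCoreOf_isPGroup K₁)
      ((inf_le_left.trans hBQ).trans c.hQ.le) (hS.inv_cen hAB ha)
      (hT₂K.trans (Local.le_normalizer_pCoreOf K₁))
      (coprime_of_isPGroup (c.hQ.pg.to_le (inf_le_left.trans hBQ)) c.ne.symm c.hp) ha ha1 inf_le_right
      hb (hS.not_mem_symm ha hb hb1 hab) hUb
  -- conclude
  obtain ⟨a₀, ha₀, -, hwide⟩ := hS.exists_wide c.hP c.dvd h2
  obtain ⟨b, hb, hba, hQb⟩ := hS.exists_outside c.hQ c.dvd' ha₀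
  have hb1 : b ≠ 1 := fun e => hba (e ▸ one_mem _)
  have hQbK : Q ⊓ centralizer ({b} : Set X) ≤ K₁ := hgood b hb hb1 (hwide b hb hba)
  refine c.nolink ⟨K₁, hK₁.1, hPK, hS.le_of_cen_le c.hQ.le c.hQ.inv fun a ha ha1 => ?_⟩
  by_cases hab : a ∈ zpowers b
  · rwa [hS.cen_eq hb hab ha1]
  refine hgood a ha ha1 fun h0 => hQb (hU1 _ inf_le_left hQbK ?_)
  rw [le_centralizer_iff, ← commutator_eq_bot_iff_le_centralizer]
  exact hS.commutator_eq_bot (hUP.trans c.hP.le) hAU (Local.pCoreOf_isPGroup K₁)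
    (inf_le_left.trans c.hQ.le) (hS.inv_cen c.hQ.inv hb)
    (hQbK.trans (Local.le_normalizer_pCoreOf K₁))
    (coprime_of_isPGroup (c.hQ.pg.to_le inf_le_left) c.ne.symm c.hp) hb hb1 inf_le_right ha hab
    ((inf_le_inf_right _ hUP).trans (h0.trans_le bot_le))

end Ctx

end Cfsg.Lib.Coprime.Ward
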