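import Cfsg.Agent.Lib.Coprime.Ward.Module
import Cfsg.Agent.Lib.Thompson.NormalComplement
import Cfsg.Agent.Lib.Fusion.Abelian
import Cfsg.Agent.Lib.Core.Fitting

/-!
# Invariant Sylow subgroups in a minimal example

* `MinCE.exists_invSyl`: the unique invariant Sylow subgroup, with `InvSyl.inf`.
* `MinCE.exists_outside`: a Sylow subgroup is never fixed by a nonidentity operator.
* `MinCE.exists_wide`: for `p` odd, all but one line meets the Sylow `p`-subgroup.
-/

set_option autoImplicit false
set_option linter.style.haveILetI false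

namespace Cfsg.Lib.Coprime.Ward

open Subgroup Cfsg
open scoped commutatorElement

universe u

variable {X : Type u} [Group X]

/-- The invariant Sylow `p`-subgroup. -/
structure InvSyl (G A : Subgroup X) (p : ℕ) (P : Subgroup X) : Prop where
  le : P ≤ G
  pg : IsPGroup p P
  inv : A ≤ normalizer (P : Set X)
  max : ∀ U : Subgroup X, U ≤ G → IsPGroup p U → A ≤ normalizer (U : Set X) → U ≤ P
  hall : ¬ p ∣ P.relIndex G

variable [Finite X] {G A : Subgroup X} {r p : ℕ} [hp : Fact p.Prime]

omit hp in
theorem coprime_of_isPGroup {H : Subgroup X} {q : ℕ} [hq : Fact q.Prime] (hH : IsPGroup q H)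
    (hne : q ≠ p) (hp : p.Prime) : (Nat.card H).Coprime p := by
  obtain ⟨k, hk⟩ := IsPGroup.iff_card.mp hH
  rw [hk]
  exact ((Nat.coprime_primes hq.out hp).mpr hne).pow_left k

theorem eq_bot_of_isPGroup_two {H : Subgroup X} {q : ℕ} [hq : Fact q.Prime] (hH : IsPGroup q H)
    (hH' : IsPGroup p H) (hne : q ≠ p) : H = ⊥ := by
  have hc := coprime_of_isPGroup hH hne hp.out
  obtain ⟨k, hk⟩ := IsPGroup.iff_card.mp hH'
  refine eq_bot_of_card_eq _ ?_
  exact Nat.eq_one_of_dvd_coprimes (hc.pow_right k) dvd_rfl hk.dvd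

theorem MinCE.exists_invSyl (hS : MinCE G A r) (p : ℕ) [Fact p.Prime] :
    ∃ P, InvSyl G A p P := by
  obtain ⟨P, hP⟩ := exists_invariant_sylow hS.norm (hS.coprime le_rfl) (Or.inl hS.solvA) p
  refine ⟨(P : Subgroup G).map G.subtype, map_subtype_le _, P.isPGroup'.map _, hP,
    fun U hU hUp hAU => ?_, ?_⟩
  · obtain ⟨Q, hUQ, hQ⟩ :=
      exists_invariant_sylow_ge hS.norm (hS.coprime le_rfl) (Or.inl hS.solvA) hU hUp hAU
    obtain ⟨c, hc, hQP⟩ :=
      exists_centralizer_conj_sylow hS.norm (hS.coprime le_rfl) (Or.inl hS.solvA) P Q hP hQ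
    rw [hS.fix, mem_bot] at hc
    rw [hc, map_conj_one] at hQP
    exact hQP ▸ hUQ
  · rw [relIndex, subgroupOf, comap_map_eq_self_of_injective G.subtype_injective]
    exact P.not_dvd_index

theorem InvSyl.inf {P : Subgroup X} (hP : InvSyl G A p P) (hS : MinCE G A r) {H : Subgroup X}
    (hH : H ≤ G) (hAH : A ≤ normalizer (H : Set X)) : ¬ p ∣ (P ⊓ H).relIndex H := by
  obtain ⟨R, hR⟩ := exists_invariant_sylow hAH (hS.coprime hH) (Or.inl hS.solvA) p
  have hle : (R : Subgroup H).map H.subtype ≤ P ⊓ H :=
    le_inf (hP.max _ ((map_subtype_le _).trans hH) (R.isPGroup'.map _) hR) (map_subtype_le _)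
  intro hd
  refine R.not_dvd_index (hd.trans ?_)
  have h1 := relIndex_dvd_of_le_left H hle
  rwa [relIndex.eq_def ((R : Subgroup H).map H.subtype), subgroupOf,
    comap_map_eq_self_of_injective H.subtype_injective] at h1

theorem InvSyl.dvd_iff {P : Subgroup X} (hP : InvSyl G A p P) (hS : MinCE G A r) {H : Subgroup X}
    (hH : H ≤ G) (hAH : A ≤ normalizer (H : Set X)) : P ⊓ H = ⊥ ↔ ¬ p ∣ Nat.card H := by
  constructor
  · intro h hd
    have := hP.inf hS hH hAH
    rw [h, relIndex_bot_left] at this
    exact this hd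
  · intro h
    obtain ⟨k, hk⟩ := IsPGroup.iff_card.mp (hP.pg.to_le (inf_le_left : P ⊓ H ≤ P))
    refine eq_bot_of_card_eq _ ?_
    rcases Nat.eq_zero_or_pos k with rfl | hk0
    · rw [hk, pow_zero]
    · exact absurd (((dvd_pow_self p hk0.ne').trans hk.symm.dvd).trans (card_dvd_of_le inf_le_right)) h

theorem InvSyl.ne_bot {P : Subgroup X} (hP : InvSyl G A p P) (hd : p ∣ Nat.card G) : P ≠ ⊥ := by
  intro h
  have := hP.hall
  rw [h, relIndex_bot_left] at this
  exact this hd

theorem MinCE.not_hasNormalPComplement (hS : MinCE G A r) (hd : p ∣ Nat.card G) :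
    ¬ HasNormalPComplement p G := by
  intro h
  have hc := Fusion.hasNormalPComplement_iff_coprime.mp h
  haveI : (pResidual p G).Characteristic :=
    characteristic_iff_map_eq.mpr fun φ => Fusion.map_pResidual_equiv φ
  rcases hS.nonormal ((pResidual p G).map G.subtype) (map_subtype_le _)
      (hS.norm.trans (Core.normalizer_le_normalizer_map_char _))
      (le_normalizer.trans (Core.normalizer_le_normalizer_map_char _)) with h1 | h1
  · rw [Subgroup.map_eq_bot_iff_of_injective _ G.subtype_injective] at h1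
    have hq : IsPGroup p G := by
      obtain ⟨k, hk⟩ := IsPGroup.iff_card.mp (Fusion.isPGroup_quotient_pResidual (p := p) (G := G))
      refine IsPGroup.of_card (n := k) ?_
      rw [card_eq_card_quotient_mul_card_subgroup (pResidual p G), hk, h1, card_bot, mul_one]
    haveI := hq.isNilpotent
    exact hS.nonsolv inferInstance
  · rw [← Subgroup.card_map_of_injective G.subtype_injective, h1] at hc
    exact hp.out.ne_one (Nat.eq_one_of_dvd_coprimes hc hd dvd_rfl)

omit hp in
/-- Some line of an invariant `W` moves `V`, if `W` does. -/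
theorem MinCE.exists_moving_line (hS : MinCE G A r) {V W : Subgroup X} (hW : W ≤ G)
    (hAW : A ≤ normalizer (W : Set X)) (h : ¬ W ≤ centralizer (V : Set X)) :
    ∃ a ∈ A, a ≠ 1 ∧ ¬ W ⊓ centralizer ({a} : Set X) ≤ centralizer (V : Set X) := by
  by_contra hc
  push Not at hc
  exact h (hS.le_of_cen_le hW hAW hc)

theorem MinCE.normalizer_not_le_centralizer (hS : MinCE G A r) {P : Subgroup X}
    (hP : InvSyl G A p P) (hd : p ∣ Nat.card G) :
    ¬ G ⊓ normalizer (P : Set X) ≤ centralizer (P : Set X) := by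
  intro h
  refine hS.not_hasNormalPComplement hd ?_
  have hpg : IsPGroup p (P.subgroupOf G) := hP.pg.comap_subtype
  refine Fusion.hasNormalPComplement_of_normalizer_le_centralizer
    (hpg.toSylow (p := p) (by exact hP.hall)) ?_
  intro x hx
  have hx' : (x : X) ∈ normalizer (P : Set X) := by
    have := le_normalizer_map G.subtype (mem_map_of_mem G.subtype hx)
    rwa [show ((hpg.toSylow hP.hall : Sylow p G) : Subgroup G) = P.subgroupOf G from rfl,
      map_subgroupOf_eq_of_le hP.le] at this
  intro y hy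
  exact Subtype.ext (h ⟨x.2, hx'⟩ (y : X) hy)

/-- A Sylow subgroup is not fixed by a nonidentity operator. -/
theorem MinCE.exists_outside (hS : MinCE G A r) {P : Subgroup X} (hP : InvSyl G A p P)
    (hd : p ∣ Nat.card G) {a : X} (ha : a ∈ A) :
    ∃ b ∈ A, b ∉ zpowers a ∧ P ⊓ centralizer ({b} : Set X) ≠ ⊥ := by
  by_contra hc
  push Not at hc
  have hne := hP.ne_bot hd
  have ha1 : a ≠ 1 := by
    rintro rfl
    obtain ⟨b, hb, hb1, hPb⟩ := hS.exists_cen_ne_bot hP.le hP.inv hne
    exact hPb (hc b hb (by rwa [zpowers_one_eq_bot, mem_bot]))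
  have hPa : P ≤ centralizer ({a} : Set X) := by
    refine hS.le_of_cen_le hP.le hP.inv fun b hb hb1 => ?_
    by_cases hba : b ∈ zpowers a
    · rw [hS.cen_eq ha hba hb1]; exact inf_le_right
    · rw [hc b hb hba]; exact bot_le
  set N := G ⊓ normalizer (P : Set X)
  have hAN : A ≤ normalizer (N : Set X) := inv_inf hS.norm (inv_normalizer hP.inv)
  have hNC : N ≤ centralizer (P : Set X) := by
    intro n hn
    have haN : zpowers a ≤ normalizer (N : Set X) := zpowers_le.mpr (hAN ha)
    have haC : zpowers a ≤ normalizer ((N ⊓ centralizer (P : Set X) : Subgroup X) : Set X) :=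
      zpowers_le.mpr (inv_centralizer_inf hAN hP.inv ha)
    obtain ⟨m, hm, c, hc', rfl⟩ := exists_mul_centralizer_of_commutator_mem haN
      (hS.coprime_zpowers inf_le_left ha) (Or.inl (isSolvable_of_le (zpowers_le.mpr ha) hS.solvA))
      (inf_le_left : N ⊓ centralizer (P : Set X) ≤ N) haC hn fun b hb => by
        refine ⟨commutator_le_of_le_normalizer haN (commutator_mem_commutator hn hb), fun s hs => ?_⟩
        have hnP : n ∈ normalizer (P : Set X) := hn.2
        have hsb : ∀ v ∈ P, b * v = v * b := fun v hv => by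
          have h1 : v ∈ centralizer ((zpowers a : Subgroup X) : Set X) := by
            rw [centralizer_zpowers]; exact hPa hv
          exact h1 b hb
        have h2 : n⁻¹ * s * n ∈ P := (mem_normalizer_iff''.mp hnP s).mp hs
        rw [commutatorElement_def]
        calc s * (n * b * n⁻¹ * b⁻¹) = n * (n⁻¹ * s * n * b) * n⁻¹ * b⁻¹ := by group
          _ = n * (b * (n⁻¹ * s * n)) * n⁻¹ * b⁻¹ := by rw [hsb _ h2]
          _ = n * b * n⁻¹ * (s * b⁻¹) := by group
          _ = n * b * n⁻¹ * b⁻¹ * s := by
            rw [mul_assoc (n * b * n⁻¹) b⁻¹ s]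
            congr 1
            rw [eq_inv_mul_iff_mul_eq, ← mul_assoc, hsb s hs, mul_inv_cancel_right]
    refine mul_mem hm.2 fun s hs => ?_
    rw [centralizer_zpowers] at hc'
    exact hS.commute_of_cen ha ha1 (hP.le hs) hc'.1.1 (mem_centralizer_iff.mp (hPa hs) a rfl)
      (mem_centralizer_iff.mp hc'.2 a rfl)
  exact hS.normalizer_not_le_centralizer hP hd hNC

/-- The instance used for `O_{p',p}`. -/
instance pPrimePCore_characteristic {K : Type u} [Group K] [Finite K] {p : ℕ} :
    (Cfsg.pPrimePCore p K).Characteristic := by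
  refine characteristic_iff_le_comap.mpr fun e => ?_
  intro x hx
  let f : K ⧸ pPrimeCore p K →* K ⧸ pPrimeCore p K :=
    QuotientGroup.map _ _ e.toMonoidHom (fun y hy => Core.map_pPrimeCore_le e.toMonoidHom e.surjective ⟨y, hy, rfl⟩)
  have hf : Function.Surjective f := fun y => by
    obtain ⟨y, rfl⟩ := QuotientGroup.mk_surjective y
    exact ⟨QuotientGroup.mk (e.symm y), by simp [f]⟩
  exact Core.map_pCore_le f hf ⟨_, hx, rfl⟩

/-- In a solvable group without normal `p`-complement some `p'`-subgroup of the normalizer of a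
Sylow subgroup `S` of `O_{p',p}` moves `S`. -/
theorem not_le_centralizer_of_no_complement {K : Type u} [Group K] [Finite K]
    [Group.IsSolvable K] (h : ¬ HasNormalPComplement p K) (S : Subgroup K) (hSp : IsPGroup p S)
    (hSE : S ≤ pPrimePCore p K) (hSi : ¬ p ∣ S.relIndex (pPrimePCore p K)) :
    ∃ w : ℕ, w.Prime ∧ w ≠ p ∧ ∀ W : Subgroup K, IsPGroup w W → W ≤ normalizer (S : Set K) →
      ¬ w ∣ W.relIndex (normalizer (S : Set K)) → ¬ W ≤ centralizer (S : Set K) := by
  set O := pPrimeCore p K
  set q := QuotientGroup.mk' O with hqdef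
  have hqs : Function.Surjective q := QuotientGroup.mk'_surjective O
  obtain ⟨w, hw, hwp, hwd⟩ : ∃ w, w.Prime ∧ w ≠ p ∧ w ∣ Nat.card (K ⧸ O) := by
    by_contra hc
    push Not at hc
    refine h (Fusion.hasNormalPComplement_of_normal O (Core.pPrimeCore_coprime p K) ?_)
    exact IsPGroup.of_card
      (Nat.eq_prime_pow_of_unique_prime_dvd Nat.card_pos.ne' fun {d} hd hdd =>
        by_contra fun hne => hc d hd hne hdd)
  refine ⟨w, hw, hwp, fun W hWw hWN hWi hWC => ?_⟩
  haveI := Fact.mk hw
  set E := pPrimePCore p K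
  have hOE : O ≤ E := fun x hx => by
    show q x ∈ pCore p (K ⧸ O)
    rw [show q x = 1 from (QuotientGroup.eq_one_iff x).mpr hx]
    exact one_mem _
  have hEO : IsPGroup p (E.map q) := by
    rw [show E.map q = pCore p (K ⧸ O) from map_comap_eq_self_of_surjective hqs _]
    exact Core.pCore_isPGroup p _
  have hEq : S.map q = E.map q := by
    refine le_antisymm (map_mono hSE) (relIndex_eq_one.mp ?_)
    obtain ⟨k, hk⟩ := IsPGroup.iff_card.mp hEO
    have h1 : (S.map q).relIndex (E.map q) ∣ p ^ k := hk ▸ relIndex_dvd_card _ _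
    obtain ⟨j, -, hj⟩ := (Nat.dvd_prime_pow hp.out).mp h1
    rcases Nat.eq_zero_or_pos j with rfl | hj0
    · rw [hj, pow_zero]
    refine absurd ?_ hSi
    refine (hj ▸ dvd_pow_self p hj0.ne' : p ∣ (S.map q).relIndex (E.map q)).trans ?_
    rw [relIndex_map_map, QuotientGroup.ker_mk', sup_eq_left.mpr hOE]
    exact relIndex_dvd_of_le_left E le_sup_left
  have hES : E ≤ S ⊔ O := by
    have := comap_mono (f := q) hEq.ge
    rw [comap_map_eq, comap_map_eq, QuotientGroup.ker_mk'] at this
    exact le_sup_left.trans this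
  have hfr : normalizer (S : Set K) ⊔ E = ⊤ := by
    have hpg : IsPGroup p (S.subgroupOf E) := hSp.comap_subtype
    have := Sylow.normalizer_sup_eq_top (hpg.toSylow (p := p) hSi)
    rwa [show ((hpg.toSylow hSi : Sylow p E) : Subgroup E) = S.subgroupOf E from rfl,
      map_subgroupOf_eq_of_le hSE] at this
  have hNtop : (normalizer (S : Set K)).map q = ⊤ := by
    rw [← map_top_of_surjective q hqs, ← hfr, Subgroup.map_sup, left_eq_sup, ← hEq]
    exact map_mono le_normalizer
  have hWq : IsPGroup w (W.map q) := hWw.map q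
  have hW0 : W.map q ≠ ⊥ := by
    intro h0
    have hfs : Function.Surjective (q.comp (normalizer (S : Set K)).subtype) := fun y => by
      obtain ⟨n, hn, rfl⟩ := hNtop.ge (mem_top y)
      exact ⟨⟨n, hn⟩, rfl⟩
    have h1 : ((W.subgroupOf (normalizer (S : Set K))).map (q.comp (normalizer (S : Set K)).subtype)).index ∣
        W.relIndex (normalizer (S : Set K)) := index_map_dvd _ hfs
    rw [← Subgroup.map_map, map_subgroupOf_eq_of_le hWN, h0, index_bot] at h1
    exact hWi (hwd.trans h1)
  have hle : W.map q ≤ pCore p (K ⧸ O) := by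
    refine le_trans ?_ (Core.centralizer_pCore_le_of_isPSolvable
      (Core.isPSolvable_of_isSolvable (p := p)) Core.pPrimeCore_quotient_eq_bot)
    rw [show pCore p (K ⧸ O) = S.map q by
      rw [hEq]; exact (map_comap_eq_self_of_surjective hqs _).symm]
    exact (map_mono hWC).trans (map_centralizer_le_centralizer_image _ q)
  exact hW0 (eq_bot_of_isPGroup_two hWq ((Core.pCore_isPGroup p _).to_le hle) hwp)

/-- For `p` odd, the Sylow `p`-subgroup has nontrivial fixed points outside a single line. -/
theorem MinCE.exists_wide (hS : MinCE G A r) {P : Subgroup X} (hP : InvSyl G A p P)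
    (hd : p ∣ Nat.card G) (hp2 : p ≠ 2) :
    ∃ a ∈ A, a ≠ 1 ∧ ∀ b ∈ A, b ∉ zpowers a → P ⊓ centralizer ({b} : Set X) ≠ ⊥ := by
  have hne := hP.ne_bot hd
  have hpg : IsPGroup p (P.subgroupOf G) := hP.pg.comap_subtype
  obtain ⟨K, hKG, hAK, hKlt, hK⟩ : ∃ K : Subgroup X, K ≤ G ∧ A ≤ normalizer (K : Set X) ∧ K < G ∧
      ¬ HasNormalPComplement p K := by
    by_contra hc
    push Not at hc
    refine hS.not_hasNormalPComplement hd (Thompson.thompson_normal_p_complement hp2
      (hpg.toSylow (p := p) hP.hall) ?_)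
    have hinj := G.subtype_injective
    have hPmap : (P.subgroupOf G).map G.subtype = P := map_subgroupOf_eq_of_le hP.le
    have hZ0 : Thompson.zenter P ≠ ⊥ := Thompson.zenter_ne_bot hP.pg hne
    have hJ0 : thompsonSubgroupOf p P ≠ ⊥ := Thompson.thompsonSubgroupOf_ne_bot hP.pg hne
    have hJmap : (thompsonSubgroupOf p (P.subgroupOf G)).map G.subtype = thompsonSubgroupOf p P := by
      rw [Thompson.map_thompsonSubgroupOf _ _ hinj.injOn, hPmap]
    have hZmap : (Thompson.zenter (P.subgroupOf G)).map G.subtype = Thompson.zenter P := by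
      rw [Thompson.map_zenter _ _ hinj.injOn, hPmap]
    have hproper : ∀ N : Subgroup X, N ≠ ⊥ → N ≤ P → A ≤ normalizer (N : Set X) →
        ¬ G ≤ normalizer (N : Set X) := by
      intro N h0 hNP hAN hGN
      rcases hS.nonormal N (hNP.trans hP.le) hAN hGN with h | h
      · exact h0 h
      · haveI := (hP.pg.to_le (h ▸ hNP : G ≤ P)).isNilpotent
        exact hS.nonsolv inferInstance
    have htrans : ∀ (M : Subgroup G) (M' : Subgroup X), M.map G.subtype ≤ M' →
        HasNormalPComplement p M' → HasNormalPComplement p M := by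
      intro M M' hle h
      refine Fusion.hasNormalPComplement_of_injective
        ((G.subtype.comp M.subtype).codRestrict M' fun x => hle ⟨x.1, x.2, rfl⟩) ?_ h
      intro x y hxy
      exact Subtype.ext (Subtype.ext (congrArg (fun z : M' => (z : X)) hxy))
    constructor
    · refine htrans _ (G ⊓ normalizer (thompsonSubgroupOf p P : Set X)) ?_ (hc _ inf_le_left
        (inv_inf hS.norm (inv_normalizer (hP.inv.trans
          (Thompson.normalizer_le_normalizer_thompsonSubgroupOf P)))) ?_)
      · refine le_inf (map_subtype_le _) ?_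
        rw [← hJmap]
        exact le_normalizer_map G.subtype
      · refine lt_of_le_of_ne inf_le_left fun h => hproper _ hJ0 (Thompson.thompsonSubgroupOf_le P)
          (hP.inv.trans (Thompson.normalizer_le_normalizer_thompsonSubgroupOf P)) ?_
        exact h.ge.trans inf_le_right
    · refine htrans _ (G ⊓ centralizer (Thompson.zenter P : Set X)) ?_ (hc _ inf_le_left
        (inv_centralizer_inf hS.norm (hP.inv.trans (Thompson.normalizer_le_normalizer_zenter P))) ?_)
      · refine le_inf (map_subtype_le _) ?_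
        rw [← hZmap]
        exact map_centralizer_le_centralizer_image _ _
      · refine lt_of_le_of_ne inf_le_left fun h => hproper _ hZ0 inf_le_left
          (hP.inv.trans (Thompson.normalizer_le_normalizer_zenter P)) ?_
        exact h.ge.trans (inf_le_right.trans (centralizer_le_normalizer _))
  haveI := hS.solv K hKlt hAK
  set E := (pPrimePCore p K).map K.subtype with hEdef
  have hEK : E ≤ K := map_subtype_le _
  have hAE : A ≤ normalizer (E : Set X) := hAK.trans (Core.normalizer_le_normalizer_map_char _)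
  set V := P ⊓ E with hVdef
  have hVK : V ≤ K := inf_le_right.trans hEK
  have hAV : A ≤ normalizer (V : Set X) := inv_inf hP.inv hAE
  have hVE : V.subgroupOf K ≤ pPrimePCore p K := fun x hx => by
    obtain ⟨y, hy, hyx⟩ := (hx : (x : X) ∈ P ⊓ E).2
    exact (K.subtype_injective hyx) ▸ hy
  have hVi : ¬ p ∣ (V.subgroupOf K).relIndex (pPrimePCore p K) := by
    rw [← relIndex_map_map_of_injective (V.subgroupOf K) (pPrimePCore p K) K.subtype_injective,
      map_subgroupOf_eq_of_le hVK]
    exact hP.inf hS (hEK.trans hKG) hAE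
  obtain ⟨w, hw, hwp, hmove⟩ := not_le_centralizer_of_no_complement hK (V.subgroupOf K)
    ((hP.pg.to_le inf_le_left : IsPGroup p V).comap_subtype) hVE hVi
  haveI := Fact.mk hw
  obtain ⟨Q, hQ⟩ := hS.exists_invSyl w
  set N := K ⊓ normalizer (V : Set X) with hNdef
  have hAN : A ≤ normalizer (N : Set X) := inv_inf hAK (inv_normalizer hAV)
  have hnot : ¬ Q ⊓ N ≤ centralizer (V : Set X) := by
    intro hle
    have hnorm : normalizer ((V.subgroupOf K : Subgroup K) : Set K) = N.subgroupOf K := by
      apply le_antisymm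
      · intro x hx
        refine ⟨x.2, ?_⟩
        have := le_normalizer_map K.subtype (mem_map_of_mem K.subtype hx)
        rwa [map_subgroupOf_eq_of_le hVK] at this
      · exact fun x hx => mem_normalizer_iff.mpr fun y => mem_normalizer_iff.mp hx.2 (y : X)
    refine hmove ((Q ⊓ N).subgroupOf K) ((hQ.pg.to_le inf_le_left : IsPGroup w ↥(Q ⊓ N)).comap_subtype)
      ?_ ?_ ?_
    · rw [hnorm]; exact fun x hx => hx.2
    · rw [hnorm, ← relIndex_map_map_of_injective ((Q ⊓ N).subgroupOf K) (N.subgroupOf K)
        K.subtype_injective, map_subgroupOf_eq_of_le (inf_le_right.trans inf_le_left),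
        map_subgroupOf_eq_of_le inf_le_left]
      exact hQ.inf hS (inf_le_left.trans hKG) hAN
    · exact fun x hx y hy => Subtype.ext (hle hx (y : X) hy)
  obtain ⟨a, ha, ha1, hT⟩ := hS.exists_moving_line (inf_le_left.trans hQ.le) (inv_inf hQ.inv hAN) hnot
  refine ⟨a, ha, ha1, fun b hb hba h0 => hT ?_⟩
  rw [le_centralizer_iff, ← commutator_eq_bot_iff_le_centralizer]
  refine hS.commutator_eq_bot (inf_le_left.trans hP.le) hAV (hP.pg.to_le inf_le_left)
    ((inf_le_left.trans inf_le_left).trans hQ.le) (hS.inv_cen (inv_inf hQ.inv hAN) ha)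
    ((inf_le_left.trans inf_le_right).trans inf_le_right) ?_ ha ha1 inf_le_right hb hba ?_
  · exact coprime_of_isPGroup (hQ.pg.to_le (inf_le_left.trans inf_le_left)) hwp hp.out
  · exact le_trans (inf_le_inf_right _ inf_le_left) (h0.trans_le bot_le)

end Cfsg.Lib.Coprime.Ward
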